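import Cfsg.Agent.Lib.Classical.OrthFrameMax.Mono
import Cfsg.Agent.Lib.Classical.FiveMax.FrameBasic

set_option autoImplicit false
set_option linter.unusedSectionVars false

/-!
An overgroup of the even monomial group of an orthogonal frame of six lines, in which an element sending one
member of the frame to an axis is monomial: coordinates under monomial elements and the first reductions.
-/

namespace CfsgLib.Orth.FrameSix

open Matrix FrameMax

variable {F : Type*} [Field F] [Finite F] {ι : Type} [Fintype ι] [DecidableEq ι]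
variable {Q : QuadraticForm F (ι → F)} {e : Fin 6 → ι → F} {a : F} {M : Subgroup (Grp Q)}

local notation "B" => QuadraticMap.polar (DFunLike.coe Q)

/-- A monomial action with signs. -/
def Acts (e : Fin 6 → ι → F) (g : Grp Q) (π : Equiv.Perm (Fin 6)) (ε : Fin 6 → F) : Prop :=
  ∀ i, ε i * ε i = 1 ∧ ap g (e i) = ε i • e (π i)

/-- A group containing the even monomial group, with the axis rule. -/
structure Over6 (Q : QuadraticForm F (ι → F)) (e : Fin 6 → ι → F) (a : F) (M : Subgroup (Grp Q)) :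
    Prop extends Frame Q e a where
  three : (3 : F) ≠ 0 ∨ ¬ IsSquare (-1 : F)
  mem : ∀ (g : Grp Q) π ε, Equiv.Perm.sign π = 1 → ∏ i, ε i = 1 → Acts e g π ε → g ∈ M
  axis : ∀ g ∈ M, ∀ i, Axis e (ap g (e i)) → Mono e g

theorem pick_four : ∀ i j : Fin 6, i ≠ j → ∃ k l m n : Fin 6,
    [i, j, k, l, m, n].Nodup ∧ ∀ w, w ∈ [i, j, k, l, m, n] := by decide +kernel

theorem sum_six {i j k l m n : Fin 6} (hn : [i, j, k, l, m, n].Nodup) (f : Fin 6 → F) :
    ∑ w, f w = f i + (f j + (f k + (f l + (f m + f n)))) := by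
  have h : (Finset.univ : Finset (Fin 6)) = [i, j, k, l, m, n].toFinset :=
    (Finset.eq_univ_of_card _ (by rw [List.toFinset_card_of_nodup hn]; simp)).symm
  rw [h, List.sum_toFinset _ hn]
  simp

theorem prod_six {i j k l m n : Fin 6} (hn : [i, j, k, l, m, n].Nodup) (f : Fin 6 → F) :
    ∏ w, f w = f i * (f j * (f k * (f l * (f m * f n)))) := by
  have h : (Finset.univ : Finset (Fin 6)) = [i, j, k, l, m, n].toFinset :=
    (Finset.eq_univ_of_card _ (by rw [List.toFinset_card_of_nodup hn]; simp)).symm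
  rw [h, List.prod_toFinset _ hn]
  simp

section frame

variable (h : Frame Q e a)
include h

theorem ext_frame {g k : Grp Q} (hgk : ∀ i, ap g (e i) = ap k (e i)) : g = k := by
  refine inv_mul_eq_one.1 ?_ |>.symm
  by_contra hne
  obtain ⟨i, hi⟩ := h.exists_moved (g := k⁻¹ * g) hne
  exact hi (by rw [ap_mul, hgk, ap_inv_ap])

theorem sum_sq {x : ι → F} (hx : Q x = a) : ∑ i, co Q e a i x * co Q e a i x = 1 := by
  have h1 := h.q_eq x
  rw [hx] at h1
  exact mul_left_cancel₀ h.a0 (by rw [mul_one, ← h1])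

theorem co_acts {g : Grp Q} {π : Equiv.Perm (Fin 6)} {ε : Fin 6 → F} (hg : Acts e g π ε) (i : Fin 6)
    (x : ι → F) : co Q e a (π i) (ap g x) = ε i * co Q e a i x := by
  have h1 := ap_b g (e i) x
  rw [(hg i).2, b_smul_left, h.b_co, h.b_co] at h1
  have h2 : ε i * co Q e a (π i) (ap g x) = co Q e a i x := mul_left_cancel₀ h.two_a (by linear_combination h1)
  rw [← h2, ← mul_assoc, (hg i).1, one_mul]

/-- Every signed permutation is an isometry. -/
theorem exists_acts (π : Equiv.Perm (Fin 6)) (ε : Fin 6 → F) (hε : ∀ i, ε i * ε i = 1) :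
    ∃ g : Grp Q, Acts e g π ε := by
  let L : (ι → F) →ₗ[F] (ι → F) :=
    { toFun := fun x => ∑ i, co Q e a i x • (ε i • e (π i))
      map_add' := fun x y => by simp only [co_add, add_smul, Finset.sum_add_distrib]
      map_smul' := fun c x => by simp only [co_smul, mul_smul, ← Finset.smul_sum, RingHom.id_apply] }
  have hco : ∀ x l, co Q e a (π l) (L x) = co Q e a l x * ε l := fun x l => by
    show co Q e a (π l) (∑ i, co Q e a i x • (ε i • e (π i))) = _
    rw [co_sum, Finset.sum_eq_single l]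
    · rw [co_smul, co_smul, h.co_self, mul_one]
    · intro i _ hi
      rw [co_smul, co_smul, h.co_ne (π.injective.ne hi.symm), mul_zero, mul_zero]
    · intro hl; exact absurd (Finset.mem_univ l) hl
  have hL : ∀ x, Q (L x) = Q x := fun x => by
    rw [h.q_eq, h.q_eq x]
    congr 1
    rw [← Equiv.sum_comp π fun i => co Q e a i (L x) * co Q e a i (L x)]
    refine Finset.sum_congr rfl fun i _ => ?_
    rw [hco, mul_mul_mul_comm, hε, mul_one]
  obtain ⟨g, hg⟩ := exists_iso h.nd L hL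
  refine ⟨g, fun i => ⟨hε i, ?_⟩⟩
  rw [hg]
  refine h.ext fun m => ?_
  obtain ⟨l, rfl⟩ := π.surjective m
  rw [hco, h.co_e, co_smul, h.co_e]
  by_cases hl : l = i
  · subst hl; simp
  · simp [hl, π.injective.ne hl]

theorem acts_of_mono {g : Grp Q} (hg : Mono e g) : ∃ π ε, Acts e g π ε := by
  choose f c hc hf using h.mono_sign hg
  have hinj : Function.Injective f := fun i j hij => by
    by_contra hne
    have h0 := ap_b g (e i) (e j)
    rw [hf, hf, hij, b_smul_left, b_smul_right, b_self, h.q, h.orth i j hne] at h0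
    exact mul_ne_zero (left_ne_zero_of_mul_eq_one (hc i))
      (mul_ne_zero (left_ne_zero_of_mul_eq_one (hc j)) h.two_a) h0
  exact ⟨Equiv.ofBijective f (Finite.injective_iff_bijective.1 hinj), c, fun i => ⟨hc i, hf i⟩⟩

omit h in
theorem mono_of_acts {g : Grp Q} {π : Equiv.Perm (Fin 6)} {ε : Fin 6 → F} (hg : Acts e g π ε) : Mono e g :=
  fun i => ⟨π i, ε i, (hg i).2⟩

theorem acts_unique {g k : Grp Q} {π : Equiv.Perm (Fin 6)} {ε : Fin 6 → F} (hg : Acts e g π ε)
    (hk : Acts e k π ε) : g = k :=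
  ext_frame h fun i => by rw [(hg i).2, (hk i).2]

theorem acts_sign {s : Grp Q} {S : Finset (Fin 6)} (hs : Sign e a s S) :
    Acts e s 1 (fun l => if l ∈ S then -1 else 1) :=
  fun i => ⟨by dsimp only; split_ifs <;> ring, h.sign_apply hs i⟩

theorem sign_of_acts {s : Grp Q} {S : Finset (Fin 6)} {ε : Fin 6 → F} (hs : Acts e s 1 ε)
    (hS : ∀ l, ε l = if l ∈ S then -1 else 1) : Sign e a s S := fun x l => by
  have := co_acts h hs l x
  rw [Equiv.Perm.one_apply] at this
  rw [this, hS]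

omit h in
theorem acts_mul {g k : Grp Q} {π σ : Equiv.Perm (Fin 6)} {ε η : Fin 6 → F} (hg : Acts e g π ε)
    (hk : Acts e k σ η) : Acts e (g * k) (π * σ) (fun i => η i * ε (σ i)) := fun i =>
  ⟨by linear_combination η i * η i * (hg (σ i)).1 + (hk i).1, by
    rw [ap_mul, (hk i).2, ap_smul, (hg (σ i)).2, smul_smul, Equiv.Perm.mul_apply]⟩

theorem acts_comm {g k : Grp Q} {π σ : Equiv.Perm (Fin 6)} {ε η : Fin 6 → F} (hg : Acts e g π ε)
    (hk : Acts e k σ η) (hp : ∀ i, π (σ i) = σ (π i)) (hs : ∀ i, η i * ε (σ i) = ε i * η (π i)) :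
    g * k = k * g :=
  ext_frame h fun i => by
    rw [(acts_mul hg hk i).2, (acts_mul hk hg i).2, Equiv.Perm.mul_apply, Equiv.Perm.mul_apply, hp]; dsimp only; rw [hs]

/-- An element fixing some members of the frame fixes their combinations. -/
theorem fix_of_supp {x : Grp Q} {y : ι → F} (hy : ∀ m ∈ supp Q e a y, ap x (e m) = e m) : ap x y = y := by
  have hlin : ∀ w : ι → F, ap x w = Matrix.mulVecLin ((x : GL ι F) : Matrix ι ι F) w := fun _ => rfl
  conv_lhs => rw [← h.sum_co y, hlin, map_sum]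
  conv_rhs => rw [← h.sum_co y]
  refine Finset.sum_congr rfl fun m _ => ?_
  rw [map_smul, ← hlin]
  by_cases hm : co Q e a m y = 0
  · rw [hm, zero_smul, zero_smul]
  · rw [hy m (mem_supp.2 hm)]

end frame

namespace Over6

variable (h : Over6 Q e a M)
include h

theorem exists_elem (π : Equiv.Perm (Fin 6)) (hπ : Equiv.Perm.sign π = 1) (ε : Fin 6 → F)
    (hε : ∀ i, ε i * ε i = 1) (hprod : ∏ i, ε i = 1) : ∃ g ∈ M, Acts e g π ε := by
  obtain ⟨g, hg⟩ := exists_acts h.toFrame π ε hε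
  exact ⟨g, h.mem g π ε hπ hprod hg, hg⟩

theorem exists_flip {i j : Fin 6} (hij : i ≠ j) : ∃ s ∈ M, Sign e a s {i, j} := by
  obtain ⟨k, l, m, n, hn, -⟩ := pick_four i j hij
  obtain ⟨s, hs, hs'⟩ := h.exists_elem 1 (map_one _) (fun w => if w ∈ ({i, j} : Finset (Fin 6)) then -1 else 1)
    (fun w => by split_ifs <;> ring) (by
      rw [prod_six hn]
      simp only [List.nodup_cons, List.mem_cons, List.not_mem_nil, or_false, not_or] at hn
      simp [Ne.symm hn.1.2.1, Ne.symm hn.1.2.2.1, Ne.symm hn.1.2.2.2.1, Ne.symm hn.1.2.2.2.2, Ne.symm hn.2.1.1,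
        Ne.symm hn.2.1.2.1, Ne.symm hn.2.1.2.2.1, Ne.symm hn.2.1.2.2.2])
  exact ⟨s, hs, sign_of_acts h.toFrame hs' fun _ => rfl⟩

/-- An element fixing an image of the frame permutes the images. -/
theorem perm_images {x g : Grp Q} (hx : x ∈ M) (hg : g ∈ M) {i : Fin 6}
    (hi : ∃ (j : Fin 6) (c : F), ap x (ap g (e i)) = c • ap g (e j)) (l : Fin 6) :
    ∃ (l' : Fin 6) (c : F), c * c = 1 ∧ ap x (ap g (e l)) = c • ap g (e l') := by
  obtain ⟨j, c, hj⟩ := hi
  have hm := h.axis _ (M.mul_mem (M.mul_mem (M.inv_mem hg) hx) hg) i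
    ⟨j, c, by rw [ap_mul, ap_mul, hj, ap_smul, ap_inv_ap]⟩
  obtain ⟨l', d, hd, hl⟩ := h.mono_sign hm l
  refine ⟨l', d, hd, ap_inj g⁻¹ ?_⟩
  rw [ap_smul, ap_inv_ap, ← hl, ap_mul, ap_mul]

/-- Such an element moves an image to an orthogonal one or to itself up to a sign. -/
theorem orth_or_eigen {x g : Grp Q} (hx : x ∈ M) (hg : g ∈ M) {i : Fin 6}
    (hi : ∃ (j : Fin 6) (c : F), ap x (ap g (e i)) = c • ap g (e j)) (l : Fin 6) :
    B (ap x (ap g (e l))) (ap g (e l)) = 0 ∨ ∃ c : F, c * c = 1 ∧ ap x (ap g (e l)) = c • ap g (e l) := by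
  obtain ⟨l', c, hc, hl⟩ := h.perm_images hx hg hi l
  by_cases e0 : l' = l
  · subst e0; exact Or.inr ⟨c, hc, hl⟩
  · left; rw [hl, b_smul_left, ap_b, h.orth _ _ e0, mul_zero]

theorem b_images {x g : Grp Q} (hx : x ∈ M) (hg : g ∈ M) {i : Fin 6}
    (hi : ∃ c : F, ap x (ap g (e i)) = c • ap g (e i)) (l : Fin 6) :
    B (ap x (ap g (e l))) (ap g (e l)) = 0 ∨ ∃ c : F, c * c = 1 ∧ ap x (ap g (e l)) = c • ap g (e l) :=
  h.orth_or_eigen hx hg ⟨i, hi⟩ l

end Over6

end CfsgLib.Orth.FrameSix
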