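import Cfsg.Agent.Lib.Classical.SLFour.FrameSix.Basic

set_option autoImplicit false
set_option linter.unusedSectionVars false

/-!
The centraliser of a pair of signs is monomial, and so is an element carrying a pair plane to a pair plane.
-/

namespace CfsgLib.Orth.FrameSix

open Matrix FrameMax

variable {F : Type*} [Field F] [Finite F] {ι : Type} [Fintype ι] [DecidableEq ι]
variable {Q : QuadraticForm F (ι → F)} {e : Fin 6 → ι → F} {a : F} {M : Subgroup (Grp Q)}

local notation "B" => QuadraticMap.polar (DFunLike.coe Q)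

theorem axis_of_co (h : Frame Q e a) {i j : Fin 6} {y : ι → F} (hy : supp Q e a y ⊆ {i, j})
    (h0 : co Q e a i y * co Q e a j y = 0) : Axis e y := by
  refine h.axis_of_supp ?_ i
  rcases mul_eq_zero.1 h0 with h1 | h1
  · refine (Finset.card_le_card (t := {j}) fun m hm => ?_).trans (Finset.card_singleton j).le
    rcases Finset.mem_insert.1 (hy hm) with rfl | h2
    · exact absurd h1 (mem_supp.1 hm)
    · exact h2
  · refine (Finset.card_le_card (t := {i}) fun m hm => ?_).trans (Finset.card_singleton i).le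
    rcases Finset.mem_insert.1 (hy hm) with rfl | h2
    · exact Finset.mem_singleton_self _
    · rw [Finset.mem_singleton] at h2; subst h2; exact absurd h1 (mem_supp.1 hm)

theorem six_ne {i j k l m n : Fin 6} (hn : [i, j, k, l, m, n].Nodup) :
    i ≠ j ∧ i ≠ k ∧ i ≠ l ∧ i ≠ m ∧ i ≠ n ∧ j ≠ k ∧ j ≠ l ∧ j ≠ m ∧ j ≠ n ∧ k ≠ l ∧ k ≠ m ∧ k ≠ n ∧
      l ≠ m ∧ l ≠ n ∧ m ≠ n := by
  simp only [List.nodup_cons, List.mem_cons, List.not_mem_nil, or_false, not_or] at hn
  obtain ⟨⟨a1, a2, a3, a4, a5⟩, ⟨b1, b2, b3, b4⟩, ⟨c1, c2, c3⟩, ⟨d1, d2⟩, e1, -⟩ := hn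
  exact ⟨a1, a2, a3, a4, a5, b1, b2, b3, b4, c1, c2, c3, d1, d2, e1⟩

theorem six_s1 {i j k l m n : Fin 6} (hn : [i, j, k, l, m, n].Nodup) : [i, j, l, k, m, n].Nodup :=
  (List.Perm.nodup_iff (((List.Perm.swap l k [m, n]).cons j).cons i)).1 hn

theorem six_s2 {i j k l m n : Fin 6} (hn : [i, j, k, l, m, n].Nodup) : [i, j, k, m, l, n].Nodup :=
  (List.Perm.nodup_iff ((((List.Perm.swap m l [n]).cons k).cons j).cons i)).1 hn

theorem six_s3 {i j k l m n : Fin 6} (hn : [i, j, k, l, m, n].Nodup) : [i, j, k, l, n, m].Nodup :=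
  (List.Perm.nodup_iff (((((List.Perm.swap n m []).cons l).cons k).cons j).cons i)).1 hn

/-- The double transposition of `i, j` and `k, l`. -/
theorem double_swap {i j k l m n : Fin 6} (hn : [i, j, k, l, m, n].Nodup) :
    ∃ π : Equiv.Perm (Fin 6), Equiv.Perm.sign π = 1 ∧ π i = j ∧ π j = i ∧ π k = l ∧ π l = k ∧ π m = m ∧
      π n = n := by
  obtain ⟨a1, a2, a3, a4, a5, b1, b2, b3, b4, c1, c2, c3, d1, d2, e1⟩ := six_ne hn
  refine ⟨Equiv.swap i j * Equiv.swap k l, ?_, ?_, ?_, ?_, ?_, ?_, ?_⟩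
  · rw [map_mul, Equiv.Perm.sign_swap a1, Equiv.Perm.sign_swap c1]; rfl
  · rw [Equiv.Perm.mul_apply, Equiv.swap_apply_of_ne_of_ne a2 a3, Equiv.swap_apply_left]
  · rw [Equiv.Perm.mul_apply, Equiv.swap_apply_of_ne_of_ne b1 b2, Equiv.swap_apply_right]
  · rw [Equiv.Perm.mul_apply, Equiv.swap_apply_left, Equiv.swap_apply_of_ne_of_ne a3.symm b2.symm]
  · rw [Equiv.Perm.mul_apply, Equiv.swap_apply_right, Equiv.swap_apply_of_ne_of_ne a2.symm b1.symm]
  · rw [Equiv.Perm.mul_apply, Equiv.swap_apply_of_ne_of_ne c2.symm d1.symm,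
      Equiv.swap_apply_of_ne_of_ne a4.symm b3.symm]
  · rw [Equiv.Perm.mul_apply, Equiv.swap_apply_of_ne_of_ne c3.symm d2.symm,
      Equiv.swap_apply_of_ne_of_ne a5.symm b4.symm]

theorem six_cov {i j k l m n : Fin 6} (hn : [i, j, k, l, m, n].Nodup) (z : Fin 6) :
    z = i ∨ z = j ∨ z = k ∨ z = l ∨ z = m ∨ z = n := by
  have hz : z ∈ [i, j, k, l, m, n].toFinset := by
    rw [Finset.eq_univ_of_card [i, j, k, l, m, n].toFinset (by rw [List.toFinset_card_of_nodup hn]; simp)]
    exact Finset.mem_univ z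
  simpa only [List.mem_toFinset, List.mem_cons, List.not_mem_nil, or_false] using hz

namespace Over6

variable (h : Over6 Q e a M)
include h

/-- The condition on two coordinates from the flip of a pair. -/
theorem flip_cases {w : ι → F} {i j p q r t : Fin 6} (hn : [i, j, p, q, r, t].Nodup) (hw : Q w = a)
    (hwi : co Q e a i w = 0) (hwj : co Q e a j w = 0)
    (hmove : ∀ x ∈ M, ap x (e i) = e i → ap x (e j) = e j →
      B (ap x w) w = 0 ∨ ∃ c : F, c * c = 1 ∧ ap x w = c • w) :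
    co Q e a p w * co Q e a p w + co Q e a q w * co Q e a q w = (2 : F)⁻¹ ∨
      (co Q e a p w = 0 ∧ co Q e a q w = 0) ∨ (co Q e a r w = 0 ∧ co Q e a t w = 0) := by
  have hhalf : ¬ (2 : F) = 0 := h.two
  have hsum := sum_sq h.toFrame hw
  rw [sum_six hn, hwi, hwj] at hsum
  obtain ⟨a1, a2, a3, a4, a5, b1, b2, b3, b4, c1, c2, c3, d1, d2, e1⟩ := six_ne hn
  obtain ⟨x, hxM, hx⟩ := h.exists_flip c1
  have hxe : ∀ z, z ≠ p → z ≠ q → ap x (e z) = e z := fun z h1 h2 => by
    rw [h.sign_apply hx, if_neg (by simp [h1, h2]), one_smul]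
  rcases hmove x hxM (hxe i a2 a3) (hxe j b1 b2) with hb | ⟨c, hc, hcw⟩
  · left
    rw [h.b_eq, sum_six hn, mul_eq_zero, or_iff_right h.two_a] at hb
    simp only [hx w] at hb
    simp [a2, a3, b1, b2, c2.symm, c3.symm, d1.symm, d2.symm, hwi, hwj] at hb
    refine eq_inv_of_mul_eq_one_left ?_
    linear_combination hsum - hb
  · right
    have key : ∀ z, (if z ∈ ({p, q} : Finset (Fin 6)) then (-1 : F) else 1) * co Q e a z w =
        c * co Q e a z w := fun z => by rw [← hx, hcw, co_smul]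
    rcases mul_self_eq_one_iff.1 hc with rfl | rfl
    · refine Or.inl ⟨?_, ?_⟩
      · have := key p; simp at this
        exact (mul_eq_zero.1 (show (2 : F) * co Q e a p w = 0 by linear_combination -this)).resolve_left hhalf
      · have := key q; simp at this
        exact (mul_eq_zero.1 (show (2 : F) * co Q e a q w = 0 by linear_combination -this)).resolve_left hhalf
    · refine Or.inr ⟨?_, ?_⟩
      · have := key r
        simp [c2.symm, d1.symm] at this
        exact (mul_eq_zero.1 (show (2 : F) * co Q e a r w = 0 by linear_combination this)).resolve_left hhalf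
      · have := key t
        simp [c3.symm, d2.symm] at this
        exact (mul_eq_zero.1 (show (2 : F) * co Q e a t w = 0 by linear_combination this)).resolve_left hhalf

theorem not_two {w : ι → F} {i j u v v' t : Fin 6} (hn : [i, j, u, v, v', t].Nodup)
    (hwi : co Q e a i w = 0) (hwj : co Q e a j w = 0) (h0 : co Q e a v' w = 0) (ht : co Q e a t w = 0)
    (hu : co Q e a u w ≠ 0) (hv : co Q e a v w ≠ 0)
    (hmove : ∀ x ∈ M, ap x (e i) = e i → ap x (e j) = e j →
      B (ap x w) w = 0 ∨ ∃ c : F, c * c = 1 ∧ ap x w = c • w) : False := by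
  obtain ⟨a1, a2, a3, a4, a5, b1, b2, b3, b4, c1, c2, c3, d1, d2, e1⟩ := six_ne hn
  obtain ⟨x, hxM, hx⟩ := h.exists_elem (Equiv.swap v v' * Equiv.swap v' t)
    (by rw [map_mul, Equiv.Perm.sign_swap d1, Equiv.Perm.sign_swap e1]; rfl)
    (fun _ => 1) (fun _ => one_mul 1) Finset.prod_const_one
  have hxe : ∀ z, z ≠ v → z ≠ v' → z ≠ t → ap x (e z) = e z := fun z h1 h2 h3 => by
    rw [(hx z).2, one_smul, Equiv.Perm.mul_apply, Equiv.swap_apply_of_ne_of_ne h2 h3,
      Equiv.swap_apply_of_ne_of_ne h1 h2]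
  have hcu : co Q e a u (ap x w) = co Q e a u w := by
    have := co_acts h.toFrame hx u w
    rwa [Equiv.Perm.mul_apply, Equiv.swap_apply_of_ne_of_ne c2 c3, Equiv.swap_apply_of_ne_of_ne c1 c2,
      one_mul] at this
  have hcv' : co Q e a v' (ap x w) = co Q e a v w := by
    have := co_acts h.toFrame hx v w
    rwa [Equiv.Perm.mul_apply, Equiv.swap_apply_of_ne_of_ne d1 d2, Equiv.swap_apply_left, one_mul] at this
  have hcv : co Q e a v (ap x w) = 0 := by
    have := co_acts h.toFrame hx t w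
    rwa [Equiv.Perm.mul_apply, Equiv.swap_apply_right, Equiv.swap_apply_right, one_mul, ht] at this
  rcases hmove x hxM (hxe i a3 a4 a5) (hxe j b2 b3 b4) with hb | ⟨c, -, hcw⟩
  · rw [h.b_eq, sum_six hn, mul_eq_zero, or_iff_right h.two_a] at hb
    simp [hwi, hwj, ht, h0, hcu, hcv, hcv'] at hb
    exact hu hb
  · have := congrArg (co Q e a v') hcw
    rw [hcv', co_smul, h0, mul_zero] at this
    exact hv this

/-- A vector off the plane moved only orthogonally or to multiples has four coordinates of equal squares. -/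
theorem quarter {w : ι → F} {i j : Fin 6} (hw : Q w = a)
    (hwi : co Q e a i w = 0) (hwj : co Q e a j w = 0) (hna : ¬ Axis e w)
    (hmove : ∀ x ∈ M, ap x (e i) = e i → ap x (e j) = e j →
      B (ap x w) w = 0 ∨ ∃ c : F, c * c = 1 ∧ ap x w = c • w)
    {p q r t : Fin 6} (hn : [i, j, p, q, r, t].Nodup) : co Q e a p w * co Q e a p w * 4 = 1 := by
  have hfull : ∀ p q r t : Fin 6, [i, j, p, q, r, t].Nodup → co Q e a t w ≠ 0 := by
    intro p q r t hn ht
    have single : ∀ u v v' : Fin 6, [i, j, u, v, v', t].Nodup → co Q e a v w = 0 → co Q e a v' w = 0 → False := by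
      intro u v v' hn' h1 h2
      refine hna (h.axis_of_supp ((Finset.card_le_card (t := {u}) fun z hz => ?_).trans
        (Finset.card_singleton u).le) u)
      rw [Finset.mem_singleton]
      rcases six_cov hn' z with rfl | rfl | rfl | rfl | rfl | rfl
      exacts [absurd hwi (mem_supp.1 hz), absurd hwj (mem_supp.1 hz), rfl, absurd h1 (mem_supp.1 hz),
        absurd h2 (mem_supp.1 hz), absurd ht (mem_supp.1 hz)]
    by_cases hp : co Q e a p w = 0
    · by_cases hq : co Q e a q w = 0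
      · exact single r p q (six_s1 (six_s2 hn)) hp hq
      · by_cases hr : co Q e a r w = 0
        · exact single q p r (six_s1 hn) hp hr
        · exact h.not_two (six_s2 (six_s1 hn)) hwi hwj hp ht hq hr hmove
    by_cases hq : co Q e a q w = 0
    · by_cases hr : co Q e a r w = 0
      · exact single p q r hn hq hr
      · exact h.not_two (six_s2 hn) hwi hwj hq ht hp hr hmove
    by_cases hr : co Q e a r w = 0
    · exact h.not_two hn hwi hwj hr ht hp hq hmove
    have h4 := sum_sq h.toFrame hw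
    rw [sum_six hn, hwi, hwj, ht] at h4
    have e1 := (h.flip_cases hn hw hwi hwj hmove).resolve_right (by simp [hp, hr])
    have e2 := (h.flip_cases (six_s2 hn) hw hwi hwj hmove).resolve_right (by simp [hp, hq])
    have e3 := (h.flip_cases (six_s2 (six_s1 hn)) hw hwi hwj hmove).resolve_right (by simp [hq, hp])
    have := mul_inv_cancel₀ h.two
    exact one_ne_zero (α := F) (by linear_combination -4 * h4 + 2 * (e1 + e2 + e3) + 3 * this)
  have hq := hfull p r t q (six_s3 (six_s2 hn))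
  have hp := hfull q r t p (six_s3 (six_s2 (six_s1 hn)))
  have hr := hfull p q t r (six_s3 hn)
  have e1 := (h.flip_cases hn hw hwi hwj hmove).resolve_right (by simp [hp, hr])
  have e2 := (h.flip_cases (six_s2 hn) hw hwi hwj hmove).resolve_right (by simp [hp, hq])
  have e3 := (h.flip_cases (six_s2 (six_s3 hn)) hw hwi hwj hmove).resolve_right (by simp [hp, hq])
  have h4 := sum_sq h.toFrame hw
  rw [sum_six hn, hwi, hwj] at h4
  have := mul_inv_cancel₀ h.two
  linear_combination 2 * (e1 + e2 + e3) - 2 * h4 + 3 * this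

/-- The coordinates in the plane have equal squares. -/
theorem plane_sq {g : Grp Q} (hg : g ∈ M) {i j k l m n : Fin 6} (hn : [i, j, k, l, m, n].Nodup)
    (hv : ∀ z, z ≠ i → z ≠ j → co Q e a z (ap g (e i)) = 0) {qk ql : F}
    (hwi : co Q e a i (ap g (e k)) = 0) (hwj : co Q e a j (ap g (e k)) = 0)
    (hk : co Q e a k (ap g (e k)) = qk) (hl : co Q e a l (ap g (e k)) = ql)
    (hk4 : qk * qk * 4 = 1) (hl4 : ql * ql * 4 = 1)
    (hα : co Q e a i (ap g (e i)) ≠ 0) (hβ : co Q e a j (ap g (e i)) ≠ 0) :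
    co Q e a i (ap g (e i)) * co Q e a i (ap g (e i)) =
      co Q e a j (ap g (e i)) * co Q e a j (ap g (e i)) := by
  obtain ⟨a1, a2, a3, a4, a5, b1, b2, b3, b4, c1, c2, c3, d1, d2, e1⟩ := six_ne hn
  obtain ⟨π, hπs, hπi, hπj, hπk, hπl, hπm, hπn⟩ := double_swap hn
  have hprod : (4 * qk * ql) * (4 * qk * ql) = 1 := by linear_combination (4 * ql * ql) * hk4 + hl4
  obtain ⟨x, hxM, hx⟩ := h.exists_elem π hπs (fun z => if z = k ∨ z = l then 4 * qk * ql else 1)
    (fun z => by split_ifs; exacts [hprod, one_mul 1])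
    (by
      rw [prod_six hn]
      simp [a2, a3, b1, b2, c2.symm, c3.symm, d1.symm, d2.symm]
      linear_combination hprod)
  have hc : ∀ z, co Q e a (π z) (ap x (ap g (e k))) =
      (if z = k ∨ z = l then 4 * qk * ql else 1) * co Q e a z (ap g (e k)) := fun z =>
    co_acts h.toFrame hx z _
  have hxw : ap x (ap g (e k)) = ap g (e k) := h.ext fun z => by
    rcases six_cov hn z with e0 | e0 | e0 | e0 | e0 | e0 <;> rw [e0]
    · have := hc j; rw [hπj, hwj, mul_zero] at this; rw [this, hwi]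
    · have := hc i; rw [hπi, hwi, mul_zero] at this; rw [this, hwj]
    · have := hc l; rw [hπl, if_pos (Or.inr rfl), hl] at this; rw [this, hk]; linear_combination qk * hl4
    · have := hc k; rw [hπk, if_pos (Or.inl rfl), hk] at this; rw [this, hl]; linear_combination ql * hk4
    · have := hc m; rw [hπm, if_neg (by push Not; exact ⟨c2.symm, d1.symm⟩), one_mul] at this; exact this
    · have := hc n; rw [hπn, if_neg (by push Not; exact ⟨c3.symm, d2.symm⟩), one_mul] at this; exact this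
  obtain ⟨α, hα'⟩ : ∃ α, α = co Q e a i (ap g (e i)) := ⟨_, rfl⟩
  obtain ⟨β, hβ'⟩ : ∃ β, β = co Q e a j (ap g (e i)) := ⟨_, rfl⟩
  rw [← hα'] at hα ⊢
  rw [← hβ'] at hβ ⊢
  have hcoi : co Q e a i (ap x (ap g (e i))) = β := by
    have := co_acts h.toFrame hx j (ap g (e i))
    rwa [hπj, if_neg (by push Not; exact ⟨b1, b2⟩), one_mul, ← hβ'] at this
  have hcoj : co Q e a j (ap x (ap g (e i))) = α := by
    have := co_acts h.toFrame hx i (ap g (e i))
    rwa [hπi, if_neg (by push Not; exact ⟨a2, a3⟩), one_mul, ← hα'] at this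
  rcases h.b_images hxM hg (i := k) ⟨1, by rw [one_smul, hxw]⟩ i with hb | ⟨c, hc', hcv⟩
  · rw [h.b_eq, sum_six hn, mul_eq_zero, or_iff_right h.two_a] at hb
    simp only [hcoi, hcoj, hv k a2.symm b1.symm, hv l a3.symm b2.symm, hv m a4.symm b3.symm,
      hv n a5.symm b4.symm, mul_zero, add_zero, ← hα', ← hβ'] at hb
    have h3 : (2 : F) * (α * β) = 0 := by linear_combination hb
    exact absurd h3 (mul_ne_zero h.two (mul_ne_zero hα hβ))
  · have h1 := congrArg (co Q e a j) hcv
    rw [hcoj, co_smul, ← hβ'] at h1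
    linear_combination (α + c * β) * h1 + β * β * hc'

/-- An element rotating the plane by half a right angle is impossible. -/
theorem rot_false {g : Grp Q} (hg : g ∈ M) {i j k l m n : Fin 6} (hn : [i, j, k, l, m, n].Nodup)
    (hv : ∀ z, z ≠ i → z ≠ j → co Q e a z (ap g (e i)) = 0)
    (hv' : ∀ z, z ≠ i → z ≠ j → co Q e a z (ap g (e j)) = 0)
    (hwi : co Q e a i (ap g (e k)) = 0) (hwj : co Q e a j (ap g (e k)) = 0)
    (hm4 : co Q e a m (ap g (e k)) * co Q e a m (ap g (e k)) * 4 = 1)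
    (hn4 : co Q e a n (ap g (e k)) * co Q e a n (ap g (e k)) * 4 = 1)
    (hα : co Q e a i (ap g (e i)) ≠ 0)
    (hsq : co Q e a i (ap g (e i)) * co Q e a i (ap g (e i)) =
      co Q e a j (ap g (e i)) * co Q e a j (ap g (e i))) : False := by
  obtain ⟨a1, a2, a3, a4, a5, b1, b2, b3, b4, c1, c2, c3, d1, d2, e1⟩ := six_ne hn
  have hhalf := h.two
  obtain ⟨π, hπs, hπi, hπj, hπk, hπl, hπm, hπn⟩ := double_swap hn
  obtain ⟨τ, hτM, hτ⟩ := h.exists_elem π hπs (fun z => if z = j ∨ z = l then -1 else 1)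
    (fun z => by split_ifs <;> ring)
    (by rw [prod_six hn]; simp [a1, a3, b1.symm, c1, b3.symm, d1.symm, b4.symm, d2.symm])
  obtain ⟨α, hα'⟩ : ∃ α, α = co Q e a i (ap g (e i)) := ⟨_, rfl⟩
  obtain ⟨β, hβ⟩ : ∃ β, β = co Q e a j (ap g (e i)) := ⟨_, rfl⟩
  obtain ⟨γ, hγ⟩ : ∃ γ, γ = co Q e a i (ap g (e j)) := ⟨_, rfl⟩
  obtain ⟨η, hη⟩ : ∃ η, η = co Q e a j (ap g (e j)) := ⟨_, rfl⟩
  rw [← hα'] at hα
  rw [← hα', ← hβ] at hsq
  have hnorm : ∀ y, (∀ z, z ≠ i → z ≠ j → co Q e a z y = 0) → ∀ x, B y x =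
      2 * a * (co Q e a i y * co Q e a i x + co Q e a j y * co Q e a j x) := fun y hy x => by
    rw [h.b_eq, sum_six hn, hy k a2.symm b1.symm, hy l a3.symm b2.symm, hy m a4.symm b3.symm,
      hy n a5.symm b4.symm]
    ring
  have hαβ : α * α + β * β = 1 := mul_left_cancel₀ h.two_a (by
    rw [hα', hβ, ← hnorm _ hv, ap_b, b_self, h.q]; ring)
  have hγη : γ * γ + η * η = 1 := mul_left_cancel₀ h.two_a (by
    rw [hγ, hη, ← hnorm _ hv', ap_b, b_self, h.q]; ring)
  have horth : α * γ + β * η = 0 := mul_left_cancel₀ h.two_a (by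
    rw [hα', hβ, hγ, hη, ← hnorm _ hv, ap_b, h.orth i j a1, mul_zero])
  have hη' : η * η = α * α := by
    have h1 : (α * α) * (γ * γ) = (β * β) * (η * η) := by linear_combination (α * γ - β * η) * horth
    have h2 : γ * γ = η * η := mul_left_cancel₀ (mul_ne_zero hα hα) (by rw [h1, hsq])
    exact mul_left_cancel₀ hhalf (by linear_combination hγη - h2 - hαβ - hsq)
  have hγ' : β * γ = -(α * η) := mul_left_cancel₀ hα (by linear_combination β * horth + η * hsq)
  have hapg : ∀ (x y : F) (z : Fin 6), co Q e a z (ap g (x • e i + y • e j)) =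
      x * co Q e a z (ap g (e i)) + y * co Q e a z (ap g (e j)) := fun x y z => by
    rw [ap_add, ap_smul, ap_smul, co_add, co_smul, co_smul]
  have hsuppg : ∀ x y : F, supp Q e a (ap g (x • e i + y • e j)) ⊆ {i, j} := fun x y z hz => by
    by_contra hc
    simp only [Finset.mem_insert, Finset.mem_singleton, not_or] at hc
    exact mem_supp.1 hz (by rw [hapg, hv z hc.1 hc.2, hv' z hc.1 hc.2, mul_zero, mul_zero, add_zero])
  have hvdec : ap g (e i) = α • e i + β • e j := h.ext fun z => by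
    rw [co_add, co_smul, co_smul, h.co_e, h.co_e]
    by_cases h1 : z = i
    · subst h1; rw [if_pos rfl, if_neg a1, hα']; ring
    by_cases h2 : z = j
    · subst h2; rw [if_pos rfl, if_neg a1.symm, hβ]; ring
    rw [if_neg h1, if_neg h2, hv z h1 h2]; ring
  have hax1 : Axis e (ap (g * g) (e i)) := by
    rw [ap_mul, hvdec]
    refine axis_of_co h.toFrame (hsuppg α β) ?_
    rw [hapg, hapg, ← hα', ← hβ, ← hγ, ← hη]
    linear_combination (α * β + β * η) * hγ' - (α * β) * hη'
  have hax2 : Axis e (ap (g * τ * g) (e i)) := by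
    rw [ap_mul, ap_mul, hvdec, ap_add, ap_smul, ap_smul, (hτ i).2, (hτ j).2, hπi, hπj]
    dsimp only
    rw [if_neg (by push Not; exact ⟨a1, a3⟩), if_pos (Or.inl rfl), one_smul,
      show α • e j + β • ((-1 : F) • e i) = (-β) • e i + α • e j by module]
    refine axis_of_co h.toFrame (hsuppg (-β) α) ?_
    rw [hapg, hapg, ← hα', ← hβ, ← hγ, ← hη]
    linear_combination -(α * β) * hγ' + (α * η) * horth - (α * β) * hsq - (α * β) * hη'
  obtain ⟨z₁, c₁, hc₁, h1⟩ := h.mono_sign (h.axis _ (M.mul_mem hg hg) i hax1) k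
  obtain ⟨z₂, c₂, hc₂, h2⟩ := h.mono_sign (h.axis _ (M.mul_mem (M.mul_mem hg hτM) hg) i hax2) k
  rw [ap_mul] at h1
  rw [ap_mul, ap_mul] at h2
  have hval : B (ap g (e k)) (ap τ (ap g (e k))) = a := by
    have ck := co_acts h.toFrame hτ l (ap g (e k))
    have cl := co_acts h.toFrame hτ k (ap g (e k))
    have cm := co_acts h.toFrame hτ m (ap g (e k))
    have cn := co_acts h.toFrame hτ n (ap g (e k))
    rw [hπl, if_pos (Or.inr rfl)] at ck
    rw [hπk, if_neg (by push Not; exact ⟨b1.symm, c1⟩)] at cl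
    rw [hπm, if_neg (by push Not; exact ⟨b3.symm, d1.symm⟩)] at cm
    rw [hπn, if_neg (by push Not; exact ⟨b4.symm, d2.symm⟩)] at cn
    rw [h.b_eq, sum_six hn, hwi, hwj, ck, cl, cm, cn]
    refine mul_left_cancel₀ hhalf ?_
    linear_combination a * hm4 + a * hn4
  have hb := ap_b g (ap g (e k)) (ap τ (ap g (e k)))
  rw [h1, h2, b_smul_left, b_smul_right, h.b_e, hval] at hb
  split_ifs at hb
  · have hcc : c₁ * c₂ * 2 = 1 := mul_right_cancel₀ h.a0 (by linear_combination hb)
    have h30 : (3 : F) = 0 := by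
      linear_combination (c₁ * c₂ * 2 + 1) * hcc - (4 * (c₂ * c₂)) * hc₁ - 4 * hc₂
    refine (h.three.resolve_left (fun h3 => h3 h30)) ⟨α, ?_⟩
    linear_combination hαβ + hsq - (α * α) * h30
  · exact h.a0 (by linear_combination -hb)

/-- The centraliser of a pair of signs. -/
theorem cent_pair {i j : Fin 6} (hij : i ≠ j) {s : Grp Q} (hs : Sign e a s {i, j}) {g : Grp Q} (hg : g ∈ M)
    (hgs : g * s = s * g) : Mono e g := by
  classical
  by_contra hnot
  have hna : ∀ l, ¬ Axis e (ap g (e l)) := fun l hl => hnot (h.axis g hg l hl)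
  obtain ⟨hin, hout⟩ := h.sign_cent hs hgs
  obtain ⟨k, l, m, n, hnd, -⟩ := pick_four i j hij
  obtain ⟨a1, a2, a3, a4, a5, b1, b2, b3, b4, c1, c2, c3, d1, d2, e1⟩ := six_ne hnd
  have hwd : ∀ z ∈ ({i, j} : Finset (Fin 6)), co Q e a z (ap g (e k)) = 0 := fun z hz => by
    have := hout k (by simp [a2.symm, b1.symm])
    exact notMem_supp.1 (Finset.disjoint_right.1 this hz)
  have hwi := hwd i (by simp)
  have hwj := hwd j (by simp)
  have hmove : ∀ x ∈ M, ap x (e i) = e i → ap x (e j) = e j →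
      B (ap x (ap g (e k))) (ap g (e k)) = 0 ∨
        ∃ c : F, c * c = 1 ∧ ap x (ap g (e k)) = c • ap g (e k) := fun x hx hxi hxj => by
    refine h.b_images hx hg (i := i) ⟨1, ?_⟩ k
    rw [one_smul]
    refine fix_of_supp h.toFrame (y := ap g (e i)) fun z hz => ?_
    rcases Finset.mem_insert.1 (hin i (by simp) hz) with rfl | h2
    · exact hxi
    · rw [Finset.mem_singleton] at h2; subst h2; exact hxj
  have hq4 : ∀ p q r t : Fin 6, [i, j, p, q, r, t].Nodup →
      co Q e a p (ap g (e k)) * co Q e a p (ap g (e k)) * 4 = 1 := fun p q r t hn' =>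
    h.quarter (by rw [ap_q, h.q]) hwi hwj (hna k) hmove hn'
  have hsupp : ∀ y, y = i ∨ y = j → ∀ z, z ≠ i → z ≠ j → co Q e a z (ap g (e y)) = 0 :=
    fun y hy z h1 h2 => notMem_supp.1 fun h3 => by
      have := hin y (by simpa using hy) h3
      simp [h1, h2] at this
  have hα : co Q e a i (ap g (e i)) ≠ 0 := fun e0 =>
    hna i (axis_of_co h.toFrame (hin i (by simp)) (by rw [e0, zero_mul]))
  have hβ : co Q e a j (ap g (e i)) ≠ 0 := fun e0 =>
    hna i (axis_of_co h.toFrame (hin i (by simp)) (by rw [e0, mul_zero]))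
  exact h.rot_false hg hnd (hsupp i (Or.inl rfl)) (hsupp j (Or.inr rfl)) hwi hwj
    (hq4 m k l n (six_s1 (six_s2 hnd))) (hq4 n k l m (six_s1 (six_s2 (six_s3 hnd)))) hα
    (h.plane_sq hg hnd (hsupp i (Or.inl rfl)) hwi hwj rfl rfl (hq4 k l m n hnd)
      (hq4 l k m n (six_s1 hnd)) hα hβ)

/-- Conjugating a pair of signs to a pair of signs. -/
theorem mono_of_pair {g : Grp Q} (hg : g ∈ M) {u v k l : Fin 6} (huv : u ≠ v) (hkl : k ≠ l) {s t : Grp Q}
    (hs : Sign e a s {u, v}) (ht : Sign e a t {k, l}) (hgs : g * s = t * g) : Mono e g := by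
  have hperm : ∀ u v k l : Fin 6, u ≠ v → k ≠ l → ∃ π : Equiv.Perm (Fin 6), Equiv.Perm.sign π = 1 ∧
      π u = k ∧ π v = l := by
    intro u v k l huv hkl
    obtain ⟨σ, h1, h2⟩ : ∃ σ : Equiv.Perm (Fin 6), σ u = k ∧ σ v = l := by
      refine ⟨Equiv.swap (Equiv.swap u k v) l * Equiv.swap u k, ?_, ?_⟩
      · rw [Equiv.Perm.mul_apply, Equiv.swap_apply_left, Equiv.swap_apply_of_ne_of_ne ?_ hkl]
        intro hk
        exact huv ((Equiv.swap u k).injective ((Equiv.swap_apply_left u k).trans hk))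
      · rw [Equiv.Perm.mul_apply, Equiv.swap_apply_left]
    rcases Int.units_eq_one_or (Equiv.Perm.sign σ) with hs | hs
    · exact ⟨σ, hs, h1, h2⟩
    obtain ⟨x, y, m', n', hn, -⟩ := pick_four k l hkl
    simp at hn
    refine ⟨Equiv.swap x y * σ, by rw [map_mul, Equiv.Perm.sign_swap (by tauto : x ≠ y), hs]; rfl, ?_, ?_⟩
    · rw [Equiv.Perm.mul_apply, h1, Equiv.swap_apply_of_ne_of_ne (by tauto) (by tauto)]
    · rw [Equiv.Perm.mul_apply, h2, Equiv.swap_apply_of_ne_of_ne (by tauto) (by tauto)]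
  obtain ⟨π, hπ, hπu, hπv⟩ := hperm u v k l huv hkl
  obtain ⟨p, hpM, hp⟩ := h.exists_elem π hπ (fun _ => 1) (fun _ => one_mul 1) Finset.prod_const_one
  have hps : p * s = t * p := ext_frame h.toFrame fun w => by
    rw [ap_mul, ap_mul, h.sign_apply hs, ap_smul, (hp w).2, one_smul, h.sign_apply ht]
    congr 1
    by_cases hw : w ∈ ({u, v} : Finset (Fin 6))
    · rw [if_pos hw, if_pos]
      simp only [Finset.mem_insert, Finset.mem_singleton] at hw ⊢
      rcases hw with rfl | rfl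
      exacts [Or.inl hπu, Or.inr hπv]
    · rw [if_neg hw, if_neg]
      simp only [Finset.mem_insert, Finset.mem_singleton, not_or] at hw ⊢
      exact ⟨fun e0 => hw.1 (π.injective (e0.trans hπu.symm)), fun e0 => hw.2 (π.injective (e0.trans hπv.symm))⟩
  have hc : (p⁻¹ * g) * s = s * (p⁻¹ * g) := by
    rw [mul_assoc, hgs, show t = p * s * p⁻¹ by rw [hps, mul_inv_cancel_right]]
    group
  have := Frame.mono_mul (mono_of_acts hp) (h.cent_pair huv hs (M.mul_mem (M.inv_mem hpM) hg) hc)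
  rwa [mul_inv_cancel_left] at this

/-- An element carrying a pair plane into a pair plane is monomial. -/
theorem mono_of_plane {g : Grp Q} (hg : g ∈ M) {u v k l : Fin 6} (huv : u ≠ v) (hkl : k ≠ l)
    (hu : supp Q e a (ap g (e u)) ⊆ {k, l}) (hv : supp Q e a (ap g (e v)) ⊆ {k, l}) : Mono e g := by
  classical
  obtain ⟨s, -, hs⟩ := h.exists_flip huv
  obtain ⟨t, -, ht⟩ := h.exists_flip hkl
  refine h.mono_of_pair hg huv hkl hs ht (ext_frame h.toFrame fun w => ?_)
  rw [ap_mul, ap_mul, h.sign_apply hs, ap_smul]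
  have hpair : ∀ z, z = u ∨ z = v → supp Q e a (ap g (e z)) ⊆ {k, l} := fun z hz => by
    rcases hz with rfl | rfl <;> assumption
  by_cases hw : w ∈ ({u, v} : Finset (Fin 6))
  · rw [if_pos hw]
    simp only [Finset.mem_insert, Finset.mem_singleton] at hw
    refine h.ext fun m => ?_
    rw [co_smul, ht]
    by_cases hm : m ∈ ({k, l} : Finset (Fin 6))
    · rw [if_pos hm]
    · rw [notMem_supp.1 fun h1 => hm (hpair w hw h1), mul_zero, mul_zero]
  · rw [if_neg hw, one_smul]
    simp only [Finset.mem_insert, Finset.mem_singleton, not_or] at hw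
    refine h.ext fun m => ?_
    rw [ht]
    by_cases hm : m ∈ ({k, l} : Finset (Fin 6))
    swap
    · rw [if_neg hm, one_mul]
    suffices h0 : co Q e a m (ap g (e w)) = 0 by rw [h0, mul_zero]
    have hor : ∀ z z', (z = u ∨ z = v) → co Q e a k (ap g (e z)) * co Q e a k (ap g (e z')) +
        co Q e a l (ap g (e z)) * co Q e a l (ap g (e z')) = if z = z' then 1 else 0 := fun z z' hz => by
      have h0 := h.b_eq (ap g (e z)) (ap g (e z'))
      rw [ap_b, h.b_e, ← Finset.sum_subset (Finset.subset_univ ({k, l} : Finset (Fin 6))) (fun p _ hp => by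
          rw [notMem_supp.1 fun h1 => hp (hpair z hz h1), zero_mul]), Finset.sum_pair hkl] at h0
      refine mul_left_cancel₀ h.two_a (h0.symm.trans ?_)
      split_ifs <;> ring
    have suu := hor u u (Or.inl rfl)
    have svv := hor v v (Or.inr rfl)
    have suv := hor u v (Or.inl rfl)
    have ou := hor u w (Or.inl rfl)
    have ov := hor v w (Or.inr rfl)
    rw [if_pos rfl] at suu svv
    rw [if_neg huv] at suv
    rw [if_neg (Ne.symm hw.1)] at ou
    rw [if_neg (Ne.symm hw.2)] at ov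
    obtain ⟨c1, hc1⟩ : ∃ c, co Q e a k (ap g (e u)) = c := ⟨_, rfl⟩
    obtain ⟨c2, hc2⟩ : ∃ c, co Q e a l (ap g (e u)) = c := ⟨_, rfl⟩
    obtain ⟨d1, hd1⟩ : ∃ c, co Q e a k (ap g (e v)) = c := ⟨_, rfl⟩
    obtain ⟨d2, hd2⟩ : ∃ c, co Q e a l (ap g (e v)) = c := ⟨_, rfl⟩
    rw [hc1, hc2] at suu ou
    rw [hc1, hc2, hd1, hd2] at suv
    rw [hd1, hd2] at svv ov
    have hdet : (c1 * d2 - c2 * d1) * (c1 * d2 - c2 * d1) = 1 := by
      linear_combination (d1 * d1 + d2 * d2) * suu + svv - (c1 * d1 + c2 * d2) * suv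
    have hd0 : c1 * d2 - c2 * d1 ≠ 0 := left_ne_zero_of_mul_eq_one hdet
    simp only [Finset.mem_insert, Finset.mem_singleton] at hm
    rcases hm with rfl | rfl
    · exact (mul_eq_zero.1 (show (c1 * d2 - c2 * d1) * co Q e a m (ap g (e w)) = 0 by
        linear_combination d2 * ou - c2 * ov)).resolve_left hd0
    · exact (mul_eq_zero.1 (show (c1 * d2 - c2 * d1) * co Q e a m (ap g (e w)) = 0 by
        linear_combination c1 * ov - d1 * ou)).resolve_left hd0

end Over6

end CfsgLib.Orth.FrameSix
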