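import Cfsg.Agent.Lib.Classical.SLFour.FrameSix.Involution
import Cfsg.Agent.Lib.Classical.FiveMax.FrameMain
import Cfsg.Agent.Lib.Classical.OrthDecompMax.Spread

set_option autoImplicit false
set_option linter.unusedSectionVars false

/-!
The monomial group of an orthogonal frame in dimension six over a prime field is maximal in `Ω`: the axis rule
comes from dimension five.
-/

namespace CfsgLib.Orth.FrameSix

open Matrix DecompMax FrameMax
open scoped commutatorElement

variable {F : Type*} [Field F] [Finite F] {ι : Type} [Fintype ι] [DecidableEq ι]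
variable {Q : QuadraticForm F (ι → F)} {e : Fin 6 → ι → F} {a : F} {M : Subgroup (Grp Q)}

local notation "B" => QuadraticMap.polar (DFunLike.coe Q)

/-! ### The first five members -/

/-- The form on the coordinates of the first five members. -/
def q5 (a : F) : QuadraticForm F (Fin 5 → F) := QuadraticMap.weightedSumSquares F (fun _ : Fin 5 => a)

theorem q5_apply (x : Fin 5 → F) : q5 a x = a * ∑ i, x i * x i := by
  simp [q5, QuadraticMap.weightedSumSquares_apply, Finset.mul_sum]

theorem polar_q5 (x y : Fin 5 → F) : QuadraticMap.polar (⇑(q5 a)) x y = 2 * a * ∑ i, x i * y i := by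
  simp only [QuadraticMap.polar, q5_apply, Pi.add_apply, Fin.sum_univ_five]
  ring

theorem frame5 (h2 : (2 : F) ≠ 0) (ha : a ≠ 0) :
    Frame (q5 a) (fun i : Fin 5 => (Pi.single i 1 : Fin 5 → F)) a := by
  refine ⟨fun x hx => funext fun i => ?_, h2, ha, fun i => ?_, fun i j hij => ?_, ?_⟩
  · have := hx (Pi.single i 1)
    rw [polar_q5, Finset.sum_eq_single i (fun j _ hj => by simp [hj])
      (fun hi => absurd (Finset.mem_univ i) hi), Pi.single_eq_same, mul_one] at this
    exact (mul_eq_zero.1 this).resolve_left (mul_ne_zero h2 ha)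
  · rw [q5_apply, Finset.sum_eq_single i (fun j _ hj => by simp [hj])
      (fun hi => absurd (Finset.mem_univ i) hi)]
    simp
  · rw [polar_q5, Finset.sum_eq_zero fun k _ => ?_, mul_zero]
    by_cases hk : k = i
    · subst hk; simp [hij]
    · simp [hk]
  · rw [eq_top_iff]
    intro x _
    rw [pi_eq_sum_univ x]
    exact Submodule.sum_mem _ fun i _ => Submodule.smul_mem _ _ (Submodule.subset_span ⟨i, by
      ext j; simp [Pi.single_apply, eq_comm]⟩)

/-- The vector with given coordinates on the first five members. -/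
def emb (e : Fin 6 → ι → F) (v : Fin 5 → F) : ι → F := ∑ i, v i • e (Fin.castSucc i)

/-- The coordinates on the first five members. -/
def cut (Q : QuadraticForm F (ι → F)) (e : Fin 6 → ι → F) (a : F) (x : ι → F) : Fin 5 → F :=
  fun i => co Q e a (Fin.castSucc i) x

section frame

variable (h : Frame Q e a)
include h

theorem co_emb (v : Fin 5 → F) : (∀ i, co Q e a (Fin.castSucc i) (emb e v) = v i) ∧
    co Q e a (Fin.last 5) (emb e v) = 0 := by
  constructor
  · intro i
    rw [emb, co_sum, Finset.sum_eq_single i]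
    · rw [co_smul, h.co_self, mul_one]
    · intro j _ hj
      rw [co_smul, h.co_ne (fun e0 => hj (Fin.castSucc_injective _ e0.symm)), mul_zero]
    · intro hi; exact absurd (Finset.mem_univ i) hi
  · rw [emb, co_sum]
    exact Finset.sum_eq_zero fun j _ => by
      rw [co_smul, h.co_ne (Fin.castSucc_lt_last j).ne', mul_zero]

theorem emb_smul (c : F) (v : Fin 5 → F) : emb e (c • v) = c • emb e v := by
  simp [emb, Finset.smul_sum, smul_smul]

theorem q_cut (x : ι → F) :
    Q x = q5 a (cut Q e a x) + a * (co Q e a (Fin.last 5) x * co Q e a (Fin.last 5) x) := by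
  rw [h.q_eq, Fin.sum_univ_castSucc, q5_apply, mul_add]; rfl

theorem cut_emb (v : Fin 5 → F) : cut Q e a (emb e v) = v := funext (co_emb h v).1

theorem q_emb (v : Fin 5 → F) : Q (emb e v) = q5 a v := by
  rw [q_cut h, cut_emb h, (co_emb h v).2, mul_zero, mul_zero, add_zero]

theorem emb_cut {x : ι → F} (hx : co Q e a (Fin.last 5) x = 0) : emb e (cut Q e a x) = x := h.ext fun i => by
  rcases Fin.eq_castSucc_or_eq_last i with ⟨j, rfl⟩ | rfl
  · rw [(co_emb h _).1]; rfl
  · rw [(co_emb h _).2, hx]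

/-- The isometries of the five as isometries fixing the sixth. -/
theorem exists_ext : ∃ E : Grp (q5 a) →* Grp Q,
    (∀ g v, ap (E g) (emb e v) = emb e (ap g v)) ∧ ∀ g, ap (E g) (e (Fin.last 5)) = e (Fin.last 5) := by
  have hex : ∀ g : Grp (q5 a), ∃ k : Grp Q, (∀ v, ap k (emb e v) = emb e (ap g v)) ∧
      ap k (e (Fin.last 5)) = e (Fin.last 5) := by
    intro g
    let L : (ι → F) →ₗ[F] (ι → F) :=
      { toFun := fun x => emb e (ap g (cut Q e a x)) + co Q e a (Fin.last 5) x • e (Fin.last 5)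
        map_add' := fun x y => by
          have hc : cut Q e a (x + y) = cut Q e a x + cut Q e a y := funext fun i => co_add _ x y
          simp only [hc, ap_add, emb, Pi.add_apply, add_smul, Finset.sum_add_distrib, co_add]
          abel
        map_smul' := fun c x => by
          have hc : cut Q e a (c • x) = c • cut Q e a x := funext fun i => co_smul _ c x
          simp only [hc, ap_smul, emb, Pi.smul_apply, smul_eq_mul, mul_smul, ← Finset.smul_sum, co_smul,
            RingHom.id_apply, smul_add] }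
    have hL : ∀ x, Q (L x) = Q x := fun x => by
      show Q (emb e (ap g (cut Q e a x)) + co Q e a (Fin.last 5) x • e (Fin.last 5)) = Q x
      have h1 : B (e (Fin.last 5)) (emb e (ap g (cut Q e a x))) = 0 := by
        rw [h.b_co, (co_emb h _).2, mul_zero]
      rw [q_add, q_emb h, ap_q, q_smul, h.q, b_smul_right, b_comm, h1, mul_zero, q_cut h x]
      ring
    obtain ⟨k, hk⟩ := exists_iso h.nd L hL
    refine ⟨k, fun v => ?_, ?_⟩
    · rw [hk]
      show emb e (ap g (cut Q e a (emb e v))) + co Q e a (Fin.last 5) (emb e v) • e (Fin.last 5) = _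
      rw [cut_emb h, (co_emb h v).2, zero_smul, add_zero]
    · rw [hk]
      show emb e (ap g (cut Q e a (e (Fin.last 5)))) + co Q e a (Fin.last 5) (e (Fin.last 5)) • e (Fin.last 5) = _
      have hc : cut Q e a (e (Fin.last 5)) = 0 := funext fun i => h.co_ne (Fin.castSucc_lt_last i).ne
      rw [hc, ap_zero, h.co_self, one_smul]
      simp [emb]
  choose k hk hk' using hex
  refine ⟨MonoidHom.mk' k fun g g' => ext_frame h fun i => ?_, hk, hk'⟩
  rcases Fin.eq_castSucc_or_eq_last i with ⟨j, rfl⟩ | rfl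
  · have : e (Fin.castSucc j) = emb e (Pi.single j 1) := h.ext fun i => by
      rcases Fin.eq_castSucc_or_eq_last i with ⟨l, rfl⟩ | rfl
      · rw [(co_emb h _).1, h.co_e]; simp [Pi.single_apply, Fin.castSucc_inj]
      · rw [(co_emb h _).2, h.co_ne (Fin.castSucc_lt_last j).ne']
    rw [this, hk, ap_mul, ap_mul, hk, hk]
  · rw [hk', ap_mul, hk', hk']

theorem exists_pre {g : Grp Q} (hg : ap g (e (Fin.last 5)) = e (Fin.last 5)) :
    ∃ g' : Grp (q5 a), ∀ v, emb e (ap g' v) = ap g (emb e v) := by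
  have h0 : ∀ v, co Q e a (Fin.last 5) (ap g (emb e v)) = 0 := fun v => by
    have := ap_b g (e (Fin.last 5)) (emb e v)
    rw [hg, h.b_co, h.b_co, (co_emb h v).2, mul_zero] at this
    exact (mul_eq_zero.1 this).resolve_left h.two_a
  let L : (Fin 5 → F) →ₗ[F] (Fin 5 → F) :=
    { toFun := fun v => cut Q e a (ap g (emb e v))
      map_add' := fun x y => funext fun i => by
        simp only [cut, emb, Pi.add_apply, add_smul, Finset.sum_add_distrib, ap_add, co_add]
      map_smul' := fun c x => funext fun i => by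
        simp only [cut, emb, Pi.smul_apply, smul_eq_mul, mul_smul, ← Finset.smul_sum, ap_smul, co_smul,
          RingHom.id_apply] }
  obtain ⟨g', hg'⟩ := exists_iso (frame5 h.two h.a0).nd L fun v => by
    show q5 a (cut Q e a (ap g (emb e v))) = q5 a v
    rw [← q_emb h (cut Q e a (ap g (emb e v))), emb_cut h (h0 v), ap_q, q_emb h]
  exact ⟨g', fun v => by rw [hg']; exact emb_cut h (h0 v)⟩

/-- An even number of sign changes lies in `Ω`. -/
theorem signs_omega : ∀ (n : ℕ) (ε : Fin 6 → F) (g : Grp Q) [DecidablePred fun i => ε i ≠ 1],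
    (Finset.univ.filter fun i => ε i ≠ 1).card ≤ n → ∏ i, ε i = 1 → Acts e g 1 ε →
    g ∈ Cfsg.Omega F ⇑Q := by
  classical
  intro n
  induction n with
  | zero =>
    intro ε g _ hn _ hg
    have : g = 1 := ext_frame h fun i => by
      have hi : ε i = 1 := by
        by_contra hc
        have := Finset.card_pos.2 (⟨i, by simp [hc]⟩ : (Finset.univ.filter fun i => ε i ≠ 1).Nonempty)
        omega
      rw [(hg i).2, hi, one_smul, ap_one, Equiv.Perm.one_apply]
    rw [this]; exact one_mem _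
  | succ n ih =>
    intro ε g _ hn hprod hg
    have hval : ∀ i, ε i ≠ 1 → ε i = -1 := fun i hi => (mul_self_eq_one_iff.1 (hg i).1).resolve_left hi
    by_cases hsmall : (Finset.univ.filter fun i => ε i ≠ 1).card ≤ n
    · exact ih ε g hsmall hprod hg
    obtain ⟨i, hi⟩ := Finset.card_pos.1 (show 0 < (Finset.univ.filter fun i => ε i ≠ 1).card by omega)
    rw [Finset.mem_filter] at hi
    obtain ⟨j, hji, hj⟩ : ∃ j, j ≠ i ∧ ε j ≠ 1 := by
      by_contra hc
      push Not at hc
      rw [Finset.prod_eq_single i (fun j _ hj => hc j hj) (fun h' => absurd (Finset.mem_univ i) h'),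
        hval i hi.2] at hprod
      exact h.two (by linear_combination -hprod)
    obtain ⟨r, hr⟩ := exists_refl h.nd (v := e i) (by rw [h.q]; exact h.a0)
    obtain ⟨s, hs⟩ := exists_refl h.nd (v := e j) (by rw [h.q]; exact h.a0)
    have hrs : r * s ∈ Cfsg.Omega F ⇑Q := by
      have := QuotientGroup.eq.1 (refl_coset h.nd (by rw [h.finrank_V]; norm_num) hr hs ⟨a, by rw [h.q, h.q]⟩)
      rwa [refl_inv hr] at this
    have hf := acts_sign h (h.pair_sign hji.symm hr hs)
    obtain ⟨ε', hε'⟩ : ∃ ε' : Fin 6 → F, ε' = fun l => if l = i ∨ l = j then 1 else ε l := ⟨_, rfl⟩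
    have hg' : Acts e (g * (r * s)) 1 ε' := fun l => by
      obtain ⟨h1, h2⟩ := acts_mul hg hf l
      rw [one_mul] at h2
      dsimp only at h1 h2
      have hl : ε' l = (if l ∈ ({i, j} : Finset (Fin 6)) then -1 else 1) * ε l := by
        rw [hε']
        by_cases e0 : l = i
        · subst e0; simp [hval l hi.2]
        by_cases e1 : l = j
        · subst e1; simp [hval l hj]
        simp [e0, e1]
      rw [hl]
      exact ⟨h1, h2⟩
    have hprod' : ∏ l, ε' l = 1 := by
      refine Eq.trans ?_ hprod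
      rw [hε', ← Finset.prod_mul_prod_compl {i, j} (fun l => if l = i ∨ l = j then (1 : F) else ε l),
        ← Finset.prod_mul_prod_compl {i, j} ε, Finset.prod_pair hji.symm, Finset.prod_pair hji.symm]
      rw [if_pos (Or.inl rfl), if_pos (Or.inr rfl), hval i hi.2, hval j hj]
      rw [Finset.prod_congr rfl (s₁ := ({i, j} : Finset (Fin 6))ᶜ) (g := ε) fun l hl => if_neg (by simpa using hl)]
      ring
    have hcard : (Finset.univ.filter fun l => ε' l ≠ 1).card ≤ n := by
      have hsub : (Finset.univ.filter fun l => ε' l ≠ 1) ⊆ (Finset.univ.filter fun l => ε l ≠ 1).erase i := by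
        intro l hl
        rw [Finset.mem_filter, hε'] at hl
        dsimp only at hl
        by_cases e0 : l = i ∨ l = j
        · rw [if_pos e0] at hl; exact absurd rfl hl.2
        · rw [if_neg e0] at hl
          push Not at e0
          exact Finset.mem_erase.2 ⟨e0.1, Finset.mem_filter.2 ⟨Finset.mem_univ l, hl.2⟩⟩
      have := Finset.card_le_card hsub
      rw [Finset.card_erase_of_mem (Finset.mem_filter.2 ⟨Finset.mem_univ i, hi.2⟩)] at this
      omega
    have := ih ε' _ hcard hprod' hg'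
    rw [show g = g * (r * s) * (r * s)⁻¹ by group]
    exact mul_mem this (inv_mem hrs)

/-- Even signed permutations lie in `Ω`. -/
theorem acts_omega {g : Grp Q} {π : Equiv.Perm (Fin 6)} {ε : Fin 6 → F} (hπ : Equiv.Perm.sign π = 1)
    (hε : ∏ i, ε i = 1) (hg : Acts e g π ε) : g ∈ Cfsg.Omega F ⇑Q := by
  classical
  choose p hp using fun σ : Equiv.Perm (Fin 6) => exists_acts h σ (fun _ => 1) fun _ => one_mul 1
  let φ : Equiv.Perm (Fin 6) →* Grp Q := MonoidHom.mk' p fun σ τ => acts_unique h (hp _) (by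
    have := acts_mul (hp σ) (hp τ)
    simpa using this)
  have h1 : π ∈ commutator (Equiv.Perm (Fin 6)) := by
    rw [alternatingGroup.commutator_perm_eq (by simp)]
    exact Equiv.Perm.mem_alternatingGroup.2 hπ
  have h2 : (commutator (Equiv.Perm (Fin 6))).map φ ≤ Cfsg.Omega F ⇑Q := by
    show _ ≤ commutator _
    rw [commutator_def, commutator_def, Subgroup.map_commutator]
    exact Subgroup.commutator_mono le_top le_top
  obtain ⟨d, hd⟩ := exists_acts h 1 ε fun i => (hg i).1
  have : g = p π * d := acts_unique h hg (by simpa using acts_mul (hp π) hd)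
  rw [this]
  exact mul_mem (h2 ⟨π, h1, rfl⟩) (signs_omega h 6 ε d ((Finset.card_le_univ _).trans_eq (Fintype.card_fin 6)) hε hd)

theorem even_perm (i o : Fin 6) : ∃ π : Equiv.Perm (Fin 6), Equiv.Perm.sign π = 1 ∧ π i = o := by
  by_cases hio : i = o
  · exact ⟨1, map_one _, hio⟩
  obtain ⟨x, y, u, v, hn, -⟩ := pick_four i o hio
  obtain ⟨a1, a2, a3, a4, a5, b1, b2, b3, b4, c1, -⟩ := six_ne hn
  refine ⟨Equiv.swap x y * Equiv.swap i o, ?_, ?_⟩
  · rw [map_mul, Equiv.Perm.sign_swap c1, Equiv.Perm.sign_swap hio]; rfl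
  · rw [Equiv.Perm.mul_apply, Equiv.swap_apply_left, Equiv.swap_apply_of_ne_of_ne b1 b2]

variable (hM : ∀ g : Grp Q, Mono e g → g ∈ Cfsg.Omega F ⇑Q → g ∈ M)
include hM

theorem mem_acts {g : Grp Q} {π : Equiv.Perm (Fin 6)} {ε : Fin 6 → F} (hπ : Equiv.Perm.sign π = 1)
    (hε : ∏ i, ε i = 1) (hg : Acts e g π ε) : g ∈ M :=
  hM g (mono_of_acts hg) (acts_omega h hπ hε hg)

/-- Either the axis rule holds, or every pair of vectors off a member with equal classes is related. -/
theorem axis_or_rel (hcard : (Nat.card F).Prime) :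
    (∀ g ∈ M, ∀ i, Axis e (ap g (e i)) → Mono e g) ∨
      ∀ (k : Fin 6) (x y : ι → F), co Q e a k x = 0 → co Q e a k y = 0 → Q x ≠ 0 → Q y ≠ 0 →
        IsSquare (Q x * Q y) → Rel M x y := by
  classical
  obtain ⟨E, hE, hE'⟩ := exists_ext h
  have h5 := frame5 (F := F) h.two h.a0
  have hsingle : ∀ j : Fin 5, emb e (Pi.single j 1) = e (Fin.castSucc j) := fun j => h.ext fun i => by
    rcases Fin.eq_castSucc_or_eq_last i with ⟨l, rfl⟩ | rfl
    · rw [(co_emb h _).1, h.co_e]; simp [Pi.single_apply, Fin.castSucc_inj]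
    · rw [(co_emb h _).2, h.co_ne (Fin.castSucc_lt_last j).ne']
  have hhyp : FiveMax.monoStab h5 ⊓ Cfsg.Omega F ⇑(q5 a) ≤ M.comap E := fun x hx => by
    refine hM (E x) (fun i => ?_) ?_
    · rcases Fin.eq_castSucc_or_eq_last i with ⟨j, rfl⟩ | rfl
      · obtain ⟨l, c, hc⟩ := hx.1 j
        refine ⟨Fin.castSucc l, c, ?_⟩
        rw [← hsingle j, hE, hc, ← hsingle l, emb_smul h]
      · exact ⟨Fin.last 5, 1, by rw [hE', one_smul]⟩
    · have h2 : (Cfsg.Omega F ⇑(q5 a)).map E ≤ Cfsg.Omega F ⇑Q := by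
        show (commutator _).map E ≤ commutator _
        rw [commutator_def, commutator_def, Subgroup.map_commutator]
        exact Subgroup.commutator_mono le_top le_top
      exact h2 ⟨x, hx.2, rfl⟩
  have hmove : ∀ i, ∃ p ∈ M, ∃ π : Equiv.Perm (Fin 6), π i = Fin.last 5 ∧ Acts e p π fun _ => 1 := fun i => by
    obtain ⟨π, hπ, hπi⟩ := even_perm h i (Fin.last 5)
    obtain ⟨p, hp⟩ := exists_acts h π (fun _ => 1) fun _ => one_mul 1
    exact ⟨p, mem_acts h hM hπ Finset.prod_const_one hp, π, hπi, hp⟩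
  rcases FiveMax.frame_or_omega h5 hcard hhyp with hmono | homega
  · left
    intro g hg i hi
    obtain ⟨j, c, hc, hgi⟩ : ∃ j c, c * c = (1 : F) ∧ ap g (e i) = c • e j := by
      obtain ⟨j, c, hj⟩ := hi
      refine ⟨j, c, ?_, hj⟩
      have := ap_q g (e i)
      rw [hj, q_smul, h.q, h.q] at this
      exact mul_right_cancel₀ h.a0 (by rw [this, one_mul])
    obtain ⟨p, hpM, π, hπ, hp⟩ := hmove j
    obtain ⟨r, hrM, ρ, hρ, hr⟩ := hmove i
    -- a sign fixing the last member up to `c`
    obtain ⟨d, hd⟩ := exists_acts h 1 (fun l => if l = Fin.last 5 ∨ l = 0 then c else 1)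
      fun l => by split_ifs; exacts [hc, one_mul 1]
    have hdM : d ∈ M := mem_acts h hM (map_one _) (by simp [Fin.prod_univ_six, hc]) hd
    obtain ⟨k, hk⟩ : ∃ k, k = d * p * g * r⁻¹ := ⟨_, rfl⟩
    have hkM : k ∈ M := hk ▸ M.mul_mem (M.mul_mem (M.mul_mem hdM hpM) hg) (M.inv_mem hrM)
    have hr' : ap r⁻¹ (e (Fin.last 5)) = e i := by
      conv_lhs => rw [← hρ, ← one_smul F (e (ρ i)), ← (hr i).2]
      rw [ap_inv_ap]
    have hkfix : ap k (e (Fin.last 5)) = e (Fin.last 5) := by
      rw [hk, ap_mul, hr', ap_mul, ap_mul, hgi, ap_smul, (hp j).2, hπ, ap_smul, one_smul, (hd _).2,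
        Equiv.Perm.one_apply]
      dsimp only
      rw [if_pos (Or.inl rfl), smul_smul, hc, one_smul]
    obtain ⟨k', hk'⟩ := exists_pre h hkfix
    have hEk : E k' = k := ext_frame h fun l => by
      rcases Fin.eq_castSucc_or_eq_last l with ⟨m, rfl⟩ | rfl
      · rw [← hsingle m, hE, hk']
      · rw [hE', hkfix]
    have hk'm : Mono (fun i : Fin 5 => (Pi.single i 1 : Fin 5 → F)) k' :=
      hmono (show k' ∈ M.comap E by rw [Subgroup.mem_comap, hEk]; exact hkM)
    have hkmono : Mono e k := fun l => by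
      rcases Fin.eq_castSucc_or_eq_last l with ⟨m, rfl⟩ | rfl
      · obtain ⟨w, b, hb⟩ := hk'm m
        refine ⟨Fin.castSucc w, b, ?_⟩
        rw [← hsingle m, ← hk', hb, ← hsingle w, emb_smul h]
      · exact ⟨Fin.last 5, 1, by rw [hkfix, one_smul]⟩
    have : g = p⁻¹ * d⁻¹ * k * r := by rw [hk]; group
    rw [this]
    exact Frame.mono_mul (Frame.mono_mul (Frame.mono_mul (h.mono_inv (mono_of_acts hp))
      (h.mono_inv (mono_of_acts hd))) hkmono) (mono_of_acts hr)
  · right
    have hlast : ∀ x y : ι → F, co Q e a (Fin.last 5) x = 0 → co Q e a (Fin.last 5) y = 0 → Q x ≠ 0 → Q y ≠ 0 →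
        IsSquare (Q x * Q y) → Rel M x y := by
      intro x y hx hy qx qy hsq
      have hQ : ∀ z, co Q e a (Fin.last 5) z = 0 → q5 a (cut Q e a z) = Q z := fun z hz => by
        rw [← q_emb h, emb_cut h hz]
      obtain ⟨r', hr'⟩ := exists_refl h5.nd (v := cut Q e a x) (by rw [hQ x hx]; exact qx)
      obtain ⟨s', hs'⟩ := exists_refl h5.nd (v := cut Q e a y) (by rw [hQ y hy]; exact qy)
      have hlift : ∀ z (t : Grp (q5 a)), co Q e a (Fin.last 5) z = 0 → IsRefl (cut Q e a z) t →
          IsRefl z (E t) := by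
        intro z t hz ht
        refine ⟨by rw [← hQ z hz]; exact ht.1, fun w => ?_⟩
        have hw : w = emb e (cut Q e a w) + co Q e a (Fin.last 5) w • e (Fin.last 5) := h.ext fun l => by
          rw [co_add, co_smul]
          rcases Fin.eq_castSucc_or_eq_last l with ⟨m, rfl⟩ | rfl
          · rw [(co_emb h _).1, h.co_ne (Fin.castSucc_lt_last m).ne, mul_zero, add_zero]; rfl
          · rw [(co_emb h _).2, h.co_self, mul_one, zero_add]
        have hb : B z w = QuadraticMap.polar (⇑(q5 a)) (cut Q e a z) (cut Q e a w) := by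
          rw [polar_q5, h.b_eq, Fin.sum_univ_castSucc, hz, zero_mul, add_zero]; rfl
        have hemb : ∀ (c : F) (u v : Fin 5 → F), emb e (u - c • v) = emb e u - c • emb e v := fun c u v => by
          simp [emb, sub_smul, Finset.sum_sub_distrib, Finset.smul_sum, smul_smul]
        refine (congrArg (ap (E t)) hw).trans ?_
        rw [ap_add, hE, ap_smul, hE', ht.2, hemb, emb_cut h hz, hb, hQ z hz]
        linear_combination (norm := module) -hw
      refine ⟨qx, qy, fun r s hr hs => ?_⟩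
      have h1 : r' * s' ∈ Cfsg.Omega F ⇑(q5 a) := by
        have := QuotientGroup.eq.1 (refl_coset h5.nd (by rw [h5.finrank_V]) hr' hs' (by rwa [hQ x hx, hQ y hy]))
        rwa [refl_inv hr'] at this
      have h2 := homega h1
      rw [Subgroup.mem_comap, map_mul, refl_unique (hlift x r' hx hr') hr, refl_unique (hlift y s' hy hs') hs] at h2
      exact h2
    intro k x y hx hy qx qy hsq
    obtain ⟨p, hpM, π, hπ, hp⟩ := hmove k
    have hc : ∀ z, co Q e a k z = 0 → co Q e a (Fin.last 5) (ap p z) = 0 := fun z hz => by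
      rw [← hπ, co_acts h hp, hz, mul_zero]
    have := rel_conj (M.inv_mem hpM) (hlast _ _ (hc x hx) (hc y hy) (by rw [ap_q]; exact qx)
      (by rw [ap_q]; exact qy) (by rw [ap_q, ap_q]; exact hsq))
    rwa [ap_inv_ap, ap_inv_ap] at this

/-- With all coordinate hyperplanes related, every vector of norm `a` is related. -/
theorem rel_all
    (hP : ∀ (k : Fin 6) (x y : ι → F), co Q e a k x = 0 → co Q e a k y = 0 → Q x ≠ 0 → Q y ≠ 0 →
      IsSquare (Q x * Q y) → Rel M x y) {x : ι → F} (hx : Q x = a) : Rel M (e 0) x := by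
  classical
  have hee : ∀ i k, i ≠ k → Rel M (e i) (e k) := fun i k hik => by
    obtain ⟨z, z2, z3, z4, hn, -⟩ := pick_four i k hik
    obtain ⟨a1, a2, a3, a4, a5, b1, -⟩ := six_ne hn
    exact hP z _ _ (h.co_ne a2.symm) (h.co_ne b1.symm) (by rw [h.q]; exact h.a0) (by rw [h.q]; exact h.a0)
      ⟨a, by rw [h.q, h.q]⟩
  have hzero : ∀ (k : Fin 6) (y : ι → F), Q y = a → co Q e a k y = 0 → Rel M (e 0) y := by
    intro k y hy hk
    obtain ⟨i, hik, hi0⟩ : ∃ i : Fin 6, i ≠ k ∧ i ≠ 0 := (by decide : ∀ k : Fin 6, ∃ i : Fin 6, i ≠ k ∧ i ≠ 0) k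
    exact rel_trans h.nd (hee 0 i hi0.symm)
      (hP k _ _ (h.co_ne (Ne.symm hik)) hk (by rw [h.q]; exact h.a0) (by rw [hy]; exact h.a0)
        ⟨a, by rw [h.q, hy]⟩)
  by_cases hz : ∃ k, co Q e a k x = 0
  · obtain ⟨k, hk⟩ := hz; exact hzero k x hx hk
  push Not at hz
  obtain ⟨N, p, q, r, s, t, k, hn, hN0, hN⟩ : ∃ (N : F) (p q r s t k : Fin 6), [p, q, r, s, t, k].Nodup ∧ N ≠ 0 ∧
      co Q e a p x * co Q e a p x + co Q e a q x * co Q e a q x + co Q e a r x * co Q e a r x = N := by
    by_contra hc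
    push Not at hc
    have h1 : ∀ p q r s t k : Fin 6, [p, q, r, s, t, k].Nodup →
        co Q e a p x * co Q e a p x + co Q e a q x * co Q e a q x + co Q e a r x * co Q e a r x = 0 :=
      fun p q r s t k hn => by_contra fun hne => hc _ p q r s t k hn hne rfl
    have a1 := h1 0 1 2 3 4 5 (by decide)
    have a2 := h1 3 4 5 0 1 2 (by decide)
    have hs := sum_sq h hx
    rw [sum_six (show [(0 : Fin 6), 1, 2, 3, 4, 5].Nodup by decide)] at hs
    exact one_ne_zero (α := F) (by linear_combination a1 + a2 - hs)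
  cases nonempty_fintype F
  obtain ⟨u₀, v₀, huv⟩ := FiniteField.exists_root_sum_quadratic (R := F)
    (f := Polynomial.C 1 * Polynomial.X ^ 2 + Polynomial.C (-N)) (g := Polynomial.C 1 * Polynomial.X ^ 2)
    (by compute_degree!) (by compute_degree!) (by
      exact FiniteField.odd_card_of_char_ne_two (fun e0 => h.two (by
        have := CharP.cast_eq_zero F (ringChar F); rwa [e0, Nat.cast_ofNat] at this)))
  simp only [Polynomial.eval_add, Polynomial.eval_mul, Polynomial.eval_C, Polynomial.eval_pow,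
    Polynomial.eval_X, one_mul] at huv
  obtain ⟨a1, a2, a3, a4, a5, b1, b2, b3, b4, c1, c2, c3, d1, d2, e1⟩ := six_ne hn
  obtain ⟨X, Y, Z, hX, hY, hZ⟩ : ∃ X Y Z, X = co Q e a p x ∧ Y = co Q e a q x ∧ Z = co Q e a r x :=
    ⟨_, _, _, rfl, rfl, rfl⟩
  rw [← hX, ← hY, ← hZ] at hN
  obtain ⟨σ, hσ, hσ'⟩ : ∃ σ : F, σ * σ = 1 ∧ N - σ * (X * u₀ + Y * v₀) ≠ 0 := by
    by_cases h1 : N - 1 * (X * u₀ + Y * v₀) = 0
    · refine ⟨-1, by ring, fun h2 => ?_⟩
      exact mul_ne_zero h.two hN0 (by linear_combination h1 + h2)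
    · exact ⟨1, one_mul 1, h1⟩
  obtain ⟨u, hu⟩ : ∃ u, u = (X - σ * u₀) • e p + ((Y - σ * v₀) • e q + Z • e r) := ⟨_, rfl⟩
  have hcu : ∀ z, co Q e a z u = (X - σ * u₀) * (if z = p then 1 else 0) +
      ((Y - σ * v₀) * (if z = q then 1 else 0) + Z * (if z = r then 1 else 0)) := fun z => by
    rw [hu, co_add, co_add, co_smul, co_smul, co_smul, h.co_e, h.co_e, h.co_e]
  have cup : co Q e a p u = X - σ * u₀ := by simp [hcu, a1, a2]
  have cuq : co Q e a q u = Y - σ * v₀ := by simp [hcu, a1.symm, b1]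
  have cur : co Q e a r u = Z := by simp [hcu, a2.symm, b1.symm]
  have cus : co Q e a s u = 0 := by simp [hcu, a3.symm, b2.symm, c1.symm]
  have cut' : co Q e a t u = 0 := by simp [hcu, a4.symm, b3.symm, c2.symm]
  have cuk : co Q e a k u = 0 := by simp [hcu, a5.symm, b4.symm, c3.symm]
  obtain ⟨D, hD⟩ : ∃ D, D = N - σ * (X * u₀ + Y * v₀) := ⟨_, rfl⟩
  have hQu : Q u = 2 * a * D := by
    rw [h.q_eq, sum_six hn, cup, cuq, cur, cus, cut', cuk, hD]
    linear_combination a * hN + (a * σ * σ) * huv + a * N * hσ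
  have hBu : B u x = 2 * a * D := by
    rw [h.b_eq, sum_six hn, cup, cuq, cur, cus, cut', cuk, ← hX, ← hY, ← hZ, hD]
    linear_combination 2 * a * hN
  have hu0 : Q u ≠ 0 := by rw [hQu, hD]; exact mul_ne_zero h.two_a hσ'
  obtain ⟨u₁, v₁, huv1⟩ := FiniteField.exists_root_sum_quadratic (R := F)
    (f := Polynomial.C 1 * Polynomial.X ^ 2 + Polynomial.C (-(2 * D))) (g := Polynomial.C 1 * Polynomial.X ^ 2)
    (by compute_degree!) (by compute_degree!) (by
      exact FiniteField.odd_card_of_char_ne_two (fun e0 => h.two (by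
        have := CharP.cast_eq_zero F (ringChar F); rwa [e0, Nat.cast_ofNat] at this)))
  simp only [Polynomial.eval_add, Polynomial.eval_mul, Polynomial.eval_C, Polynomial.eval_pow,
    Polynomial.eval_X, one_mul] at huv1
  obtain ⟨w, hw⟩ : ∃ w, w = u₁ • e s + v₁ • e t := ⟨_, rfl⟩
  have hcw : ∀ z, co Q e a z w = u₁ * (if z = s then 1 else 0) + v₁ * (if z = t then 1 else 0) := fun z => by
    rw [hw, co_add, co_smul, co_smul, h.co_e, h.co_e]
  have cwr : co Q e a r w = 0 := by simp [hcw, c1, c2]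
  have cwk : co Q e a k w = 0 := by simp [hcw, d2.symm, e1.symm]
  have hQw : Q w = Q u := by
    rw [hQu, h.q_eq, sum_six hn]
    simp [hcw, a3, a4, b2, b3, c1, c2, d1, d1.symm, d2.symm, e1.symm]
    linear_combination a * huv1
  have hw0 : Q w ≠ 0 := hQw ▸ hu0
  obtain ⟨ru, hru⟩ := exists_refl h.nd hu0
  obtain ⟨rw', hrw⟩ := exists_refl h.nd hw0
  have hgM : rw' * ru ∈ M :=
    (hP k w u cwk cuk hw0 hu0 ⟨Q u, by rw [hQw]⟩).2.2 rw' ru hrw hru
  have hrux : co Q e a r (ap ru x) = 0 := by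
    rw [hru.2, co_sub, co_smul, hBu, ← hQu, inv_mul_cancel₀ hu0, cur, ← hZ, one_mul, sub_self]
  have hgx : co Q e a r (ap (rw' * ru) x) = 0 := by
    rw [ap_mul, hrw.2, co_sub, co_smul, hrux, cwr, mul_zero, sub_zero]
  have hgk : ap (rw' * ru) (e k) = e k := by
    rw [ap_mul, refl_fix hru (x := e k), refl_fix hrw (x := e k)]
    · rw [b_comm, h.b_co, cwk, mul_zero]
    · rw [b_comm, h.b_co, cuk, mul_zero]
  have h1 : Rel M (e k) (ap (rw' * ru) x) := by
    have h2 := hzero r _ (by rw [ap_q]; exact hx) hgx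
    by_cases hk0 : k = 0
    · rwa [hk0]
    · exact rel_trans h.nd (rel_symm (hee 0 k (Ne.symm hk0))) h2
  rw [← hgk] at h1
  have h3 := rel_conj (M.inv_mem hgM) h1
  rw [ap_inv_ap, ap_inv_ap] at h3
  by_cases hk0 : k = 0
  · rwa [← hk0]
  · exact rel_trans h.nd (hee 0 k (Ne.symm hk0)) h3

/-- Then the overgroup holds the commutator group. -/
theorem omega_le_of_rel (hall : ∀ x, Q x = a → Rel M (e 0) x) : Cfsg.Omega F ⇑Q ≤ M := by
  classical
  have hdim : 5 ≤ Module.finrank F (ι → F) := by rw [h.finrank_V]; norm_num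
  have hco : ∀ {x y : ι → F} {r s : Grp Q}, IsRefl x r → IsRefl y s → IsSquare (Q x * Q y) →
      r * s ∈ Cfsg.Omega F ⇑Q := fun {x y r s} hr hs hsq => by
    have := QuotientGroup.eq.1 (refl_coset h.nd hdim hr hs hsq)
    rwa [refl_inv' hr] at this
  let S : Set (Grp Q) :=
    {g | ∃ x y r s, Q x = a ∧ Q y = a ∧ IsRefl x r ∧ IsRefl y s ∧ g = r * s}
  have hSM : Subgroup.closure S ≤ M := (Subgroup.closure_le _).2 (by
    rintro g ⟨x, y, r, s, hx, hy, hr, hs, rfl⟩
    exact (rel_trans h.nd (rel_symm (hall x hx)) (hall y hy)).2.2 r s hr hs)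
  refine le_trans ?_ hSM
  have ho : ∀ {c d : Fin 6}, c ≠ d → B (e c) (e d) = 0 := fun hcd => h.orth _ _ hcd
  have hq2 : ∀ {c d : Fin 6}, c ≠ d → Q (e c + e d) = 2 * a := fun {c d} hcd => by
    have := h.q_pair hcd 1 1 (one_mul 1)
    simpa only [one_smul, one_mul] using this
  obtain ⟨r₀, hr₀⟩ := exists_refl h.nd (v := e 0) (by rw [h.q]; exact h.a0)
  obtain ⟨r₁, hr₁⟩ := exists_refl h.nd (v := e 1) (by rw [h.q]; exact h.a0)
  obtain ⟨s₀, hs₀⟩ := exists_refl h.nd (v := e 0 + e 2) (by rw [hq2 (by decide)]; exact h.two_a)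
  obtain ⟨s₁, hs₁⟩ := exists_refl h.nd (v := e 3 + e 4) (by rw [hq2 (by decide)]; exact h.two_a)
  refine omega_le_of_normal h.nd hdim _ (fun g _ x hx => ?_)
    (a := r₀ * r₁) (b := s₀ * s₁)
    (Subgroup.subset_closure ⟨_, _, _, _, h.q 0, h.q 1, hr₀, hr₁, rfl⟩)
    (hco hr₀ hr₁ ⟨a, by rw [h.q, h.q]⟩)
    (hco hs₀ hs₁ ⟨2 * a, by rw [hq2 (by decide), hq2 (by decide)]⟩) ?_
  · induction hx using Subgroup.closure_induction with
    | mem z hz =>
      obtain ⟨x, y, r, s, hx, hy, hr, hs, rfl⟩ := hz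
      exact Subgroup.subset_closure ⟨ap g x, ap g y, g * r * g⁻¹, g * s * g⁻¹,
        by rw [ap_q, hx], by rw [ap_q, hy], refl_conj hr g, refl_conj hs g, by group⟩
    | one => rw [mul_one, mul_inv_cancel]; exact one_mem _
    | mul z w _ _ hz hw =>
      rw [show g * (z * w) * g⁻¹ = (g * z * g⁻¹) * (g * w * g⁻¹) by group]; exact mul_mem hz hw
    | inv z _ hz => rw [show g * z⁻¹ * g⁻¹ = (g * z * g⁻¹)⁻¹ by group]; exact inv_mem hz
  · intro hcomm
    have e0 := congrArg (fun g => ap g (e 0)) hcomm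
    have hs1e : ap s₁ (e 0) = e 0 :=
      refl_fix hs₁ (by rw [b_add_left, ho (by decide), ho (by decide), add_zero])
    have hs0e : ap s₀ (e 0) = -e 2 := by
      rw [hs₀.2, hq2 (by decide), b_add_left, ho (c := 2) (d := 0) (by decide), b_self, h.q, add_zero,
        inv_mul_cancel₀ h.two_a, one_smul]
      abel
    have hr1e : ap r₁ (e 0) = e 0 := refl_fix hr₁ (ho (by decide))
    have hr0e2 : ap r₀ (ap r₁ (e 2)) = e 2 := by
      rw [refl_fix hr₁ (ho (by decide)), refl_fix hr₀ (ho (by decide))]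
    simp only [ap_mul, hs1e, hs0e, hr1e, refl_self hr₀] at e0
    rw [← neg_one_smul F (e 2), ap_smul, ap_smul, hr0e2, ← neg_one_smul F (e 0), ap_smul,
      ap_smul, hs1e, hs0e, neg_one_smul, neg_one_smul, neg_neg] at e0
    have e1 : (2 : F) • e 2 = 0 := by
      linear_combination (norm := module) -e0
    exact h.e_ne _ ((smul_eq_zero.1 e1).resolve_left h.two)

/-- The monomial group of the frame is maximal in `Ω`. -/
theorem frame_or_omega (hcard : (Nat.card F).Prime) (hthree : (3 : F) ≠ 0 ∨ ¬ IsSquare (-1 : F)) :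
    (∀ g ∈ M, Mono e g) ∨ Cfsg.Omega F ⇑Q ≤ M := by
  rcases axis_or_rel h hM hcard with h1 | h1
  · have ho : Over6 Q e a M :=
      { toFrame := h
        three := hthree
        mem := fun g π ε hπ hε hg => mem_acts h hM hπ hε hg
        axis := h1 }
    exact Or.inl fun g hg => ho.mono_all hg
  · exact Or.inr (omega_le_of_rel h hM fun x hx => rel_all h hM h1 hx)

end frame

end CfsgLib.Orth.FrameSix
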