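import Cfsg.Agent.Lib.Classical.SLFour.FrameSix.Cent

set_option autoImplicit false
set_option linter.unusedSectionVars false

/-!
A pair of signs is conjugate to monomial elements only by monomial elements, so a non-monomial element has at most
one zero in each column.
-/

namespace CfsgLib.Orth.FrameSix

open Matrix FrameMax

variable {F : Type*} [Field F] [Finite F] {ι : Type} [Fintype ι] [DecidableEq ι]
variable {Q : QuadraticForm F (ι → F)} {e : Fin 6 → ι → F} {a : F} {M : Subgroup (Grp Q)}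

local notation "B" => QuadraticMap.polar (DFunLike.coe Q)

theorem six_u {i j k l m n : Fin 6} (hn : [i, j, k, l, m, n].Nodup) : [j, i, k, l, m, n].Nodup :=
  (List.Perm.nodup_iff (List.Perm.swap j i [k, l, m, n])).1 hn

theorem six_pp {i j k l m n : Fin 6} (hn : [i, j, k, l, m, n].Nodup) : [k, l, i, j, m, n].Nodup :=
  (List.Perm.nodup_iff ((List.perm_append_comm (l₁ := [i, j]) (l₂ := [k, l])).append_right [m, n])).1 hn

/-- The coordinates `A, B, C, D` are tied in pairs and the last two vanish. -/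
def Tied (Q : QuadraticForm F (ι → F)) (e : Fin 6 → ι → F) (a : F) (A B' C D E F' : Fin 6) (δ δ' : F)
    (y : ι → F) : Prop :=
  co Q e a B' y = δ * co Q e a A y ∧ co Q e a D y = δ' * co Q e a C y ∧ co Q e a E y = 0 ∧ co Q e a F' y = 0

namespace Over6

variable (h : Over6 Q e a M)
include h

/-- An image of one tied pair cannot be accompanied by one of the other. -/
theorem tied_axis {g : Grp Q} (hg : g ∈ M) {i j A B' C D E F' : Fin 6} (hij : i ≠ j)
    (hn : [A, B', C, D, E, F'].Nodup) {δ δ' : F} (hδ : δ * δ = 1) (hδ' : δ' * δ' = 1)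
    (hu : Tied Q e a A B' C D E F' δ δ' (ap g (e i))) (hv : Tied Q e a A B' C D E F' δ δ' (ap g (e j)))
    (hC : co Q e a C (ap g (e i)) = 0) : False := by
  obtain ⟨u1, u2, u3, u4⟩ := hu
  obtain ⟨v1, v2, v3, v4⟩ := hv
  rw [hC, mul_zero] at u2
  obtain ⟨a1, a2, a3, a4, a5, b1, b2, b3, b4, c1, c2, c3, d1, d2, e1⟩ := six_ne hn
  obtain ⟨π, hπs, hπA, hπB, hπC, hπE, hπD, hπF⟩ := double_swap (six_s2 hn)
  have hα : co Q e a A (ap g (e i)) ≠ 0 := fun e0 => by
    refine h.a0 ?_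
    rw [← h.q i, ← ap_q g, h.q_eq, sum_six hn, u1, u2, u3, u4, hC, e0]
    ring
  have hvA : co Q e a A (ap g (e j)) = 0 := by
    have hb := h.orth i j hij
    rw [← ap_b g, h.b_eq, sum_six hn, u1, u2, u3, u4, hC, v1, mul_eq_zero, or_iff_right h.two_a] at hb
    have : (2 : F) * (co Q e a A (ap g (e i)) * co Q e a A (ap g (e j))) = 0 := by
      linear_combination hb - (co Q e a A (ap g (e i)) * co Q e a A (ap g (e j))) * hδ
    exact (mul_eq_zero.1 ((mul_eq_zero.1 this).resolve_left h.two)).resolve_left hα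
  have hγ : co Q e a C (ap g (e j)) ≠ 0 := fun e0 => by
    refine h.a0 ?_
    rw [← h.q j, ← ap_q g, h.q_eq, sum_six hn, v1, v2, v3, v4, hvA, e0]
    ring
  obtain ⟨x, hxM, hx⟩ := h.exists_elem π hπs (fun z => if z = A ∨ z = B' then δ else 1)
    (fun z => by split_ifs; exacts [hδ, one_mul 1])
    (by rw [prod_six hn]; simp [a2.symm, a3.symm, a4.symm, a5.symm, b1.symm, b2.symm, b3.symm, b4.symm, hδ])
  have hc : ∀ y z, co Q e a (π z) (ap x y) = (if z = A ∨ z = B' then δ else 1) * co Q e a z y := fun y z =>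
    co_acts h.toFrame hx z y
  have cA : ∀ y, co Q e a A (ap x y) = δ * co Q e a B' y := fun y => by
    simpa [hπB] using hc y B'
  have cB : ∀ y, co Q e a B' (ap x y) = δ * co Q e a A y := fun y => by
    simpa [hπA] using hc y A
  have cC : ∀ y, co Q e a C (ap x y) = co Q e a E y := fun y => by
    simpa [hπE, a4.symm, b3.symm] using hc y E
  have cE : ∀ y, co Q e a E (ap x y) = co Q e a C y := fun y => by
    simpa [hπC, a2.symm, b1.symm] using hc y C
  have cD : ∀ y, co Q e a D (ap x y) = co Q e a D y := fun y => by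
    simpa [hπD, a3.symm, b2.symm] using hc y D
  have cF : ∀ y, co Q e a F' (ap x y) = co Q e a F' y := fun y => by
    simpa [hπF, a5.symm, b4.symm] using hc y F'
  have hxu : ap x (ap g (e i)) = ap g (e i) := h.ext fun z => by
    rcases six_cov hn z with e0 | e0 | e0 | e0 | e0 | e0 <;> rw [e0]
    · rw [cA, u1]; linear_combination co Q e a A (ap g (e i)) * hδ
    · rw [cB, u1]
    · rw [cC, u3, hC]
    · rw [cD]
    · rw [cE, u3, hC]
    · rw [cF]
  rcases h.b_images hxM hg (i := i) ⟨1, by rw [one_smul, hxu]⟩ j with hb | ⟨c, -, hcv⟩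
  · rw [h.b_eq, sum_six hn, cA, cB, cC, cD, cE, cF, v1, v2, v3, v4, hvA, mul_eq_zero,
      or_iff_right h.two_a] at hb
    exact hγ (mul_self_eq_zero.1 (by linear_combination hb -
      (co Q e a C (ap g (e j)) * co Q e a C (ap g (e j))) * hδ'))
  · have := congrArg (co Q e a E) hcv
    rw [cE, co_smul, v3, mul_zero] at this
    exact hγ this

/-- Images spanning the quad of two tied pairs. -/
theorem tied_quad {g : Grp Q} (hg : g ∈ M) {i j A B' C D E F' : Fin 6} (hij : i ≠ j)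
    (hn : [A, B', C, D, E, F'].Nodup) {δ δ' : F} (hδ : δ * δ = 1) (hδ' : δ' * δ' = 1)
    (hu : Tied Q e a A B' C D E F' δ δ' (ap g (e i))) (hv : Tied Q e a A B' C D E F' δ δ' (ap g (e j)))
    (hsq : co Q e a A (ap g (e i)) * co Q e a A (ap g (e i)) =
      co Q e a C (ap g (e i)) * co Q e a C (ap g (e i))) : Mono e g := by
  obtain ⟨u1, u2, u3, u4⟩ := hu
  obtain ⟨v1, v2, v3, v4⟩ := hv
  obtain ⟨a1, a2, a3, a4, a5, b1, b2, b3, b4, c1, c2, c3, d1, d2, e1⟩ := six_ne hn
  obtain ⟨α, hα⟩ : ∃ x, x = co Q e a A (ap g (e i)) := ⟨_, rfl⟩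
  obtain ⟨β, hβ⟩ : ∃ x, x = co Q e a C (ap g (e i)) := ⟨_, rfl⟩
  obtain ⟨α', hα'⟩ : ∃ x, x = co Q e a A (ap g (e j)) := ⟨_, rfl⟩
  obtain ⟨β', hβ'⟩ : ∃ x, x = co Q e a C (ap g (e j)) := ⟨_, rfl⟩
  rw [← hα] at u1; rw [← hβ] at u2; rw [← hα'] at v1; rw [← hβ'] at v2
  rw [← hα, ← hβ] at hsq
  have h4 : 4 * (α * α) = 1 := by
    have := sum_sq h.toFrame (x := ap g (e i)) (by rw [ap_q, h.q])
    rw [sum_six hn, u1, u2, u3, u4, ← hα, ← hβ] at this
    linear_combination this - (α * α) * hδ - (β * β) * hδ' + 2 * hsq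
  have hα0 : α ≠ 0 := fun e0 => by rw [e0] at h4; simp at h4
  have h4' : 4 * (β * β) = 1 := by linear_combination h4 - 4 * hsq
  have hβ0 : β ≠ 0 := fun e0 => by rw [e0] at h4'; simp at h4'
  have horth : α * α' + β * β' = 0 := by
    have hb := h.orth i j hij
    rw [← ap_b g, h.b_eq, sum_six hn, u1, u2, u3, u4, v1, v2, ← hα, ← hβ, ← hα', ← hβ', mul_eq_zero,
      or_iff_right h.two_a] at hb
    exact mul_left_cancel₀ h.two (by linear_combination hb - α * α' * hδ - β * β' * hδ')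
  obtain ⟨k, hk⟩ : ∃ k, k = α' * α * 4 := ⟨_, rfl⟩
  have ka : α' = k * α := by rw [hk]; linear_combination -α' * h4
  have kb : β' = -(k * β) := by
    refine mul_left_cancel₀ hβ0 ?_
    linear_combination horth - α * ka + k * (-hsq)
  have hk2 : k * k = 1 := by
    have := sum_sq h.toFrame (x := ap g (e j)) (by rw [ap_q, h.q])
    rw [sum_six hn, v1, v2, v3, v4, ← hα', ← hβ', ka, kb] at this
    linear_combination this - (k * k * α * α) * hδ - (k * k * β * β) * hδ' + 2 * k * k * hsq - k * k * h4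
  -- moving the images inside the quad
  have step : ∀ π : Equiv.Perm (Fin 6), Equiv.Perm.sign π = 1 → ∀ (P R : Fin 6) (cP cR : F),
      cP * cP * 4 = 1 → cR * cR * 4 = 1 → P ≠ R →
      co Q e a P (ap g (e i)) = cP → co Q e a R (ap g (e i)) = cR →
      π P = R → π R = P → P ≠ E → P ≠ F' → R ≠ E → R ≠ F' → π E = F' → π F' = E →
      (∀ z, z ≠ P → z ≠ R → z ≠ E → z ≠ F' → π z = z) →
      ∃ (l : Fin 6) (c : F), c * c = 1 ∧ (∀ z, co Q e a z (ap g (e l)) =
        c * (if z = P then 4 * cP * cR * co Q e a R (ap g (e j)) else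
          if z = R then 4 * cP * cR * co Q e a P (ap g (e j)) else co Q e a z (ap g (e j)))) := by
    intro π hπ P R cP cR hP hR hPR hcP hcR hπP hπR h1 h2 h3 h4 hπE hπF hπo
    have hp : (4 * cP * cR) * (4 * cP * cR) = 1 := by linear_combination (4 * cR * cR) * hP + hR
    obtain ⟨z₁, z₂, z₃, z₄, hn2, -⟩ := pick_four P R hPR
    obtain ⟨f1, f2, f3, f4, f5, g1, g2, g3, g4, -⟩ := six_ne hn2
    obtain ⟨x, hxM, hx⟩ := h.exists_elem π hπ (fun z => if z = P ∨ z = R then 4 * cP * cR else 1)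
      (fun z => by split_ifs; exacts [hp, one_mul 1])
      (by
        rw [prod_six hn2]
        simp [f2.symm, f3.symm, f4.symm, f5.symm, g1.symm, g2.symm, g3.symm, g4.symm]
        linear_combination hp)
    have hc : ∀ y z, co Q e a (π z) (ap x y) =
        (if z = P ∨ z = R then 4 * cP * cR else 1) * co Q e a z y := fun y z => co_acts h.toFrame hx z y
    have hcx : ∀ y, co Q e a E y = 0 → co Q e a F' y = 0 → ∀ z, co Q e a z (ap x y) =
        if z = P then 4 * cP * cR * co Q e a R y else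
          if z = R then 4 * cP * cR * co Q e a P y else co Q e a z y := by
      intro y hE hF z
      by_cases e0 : z = P
      · rw [if_pos e0, e0]; simpa [hπR] using hc y R
      by_cases e1 : z = R
      · rw [if_neg e0, if_pos e1, e1]; simpa [hπP] using hc y P
      rw [if_neg e0, if_neg e1]
      by_cases e2 : z = E
      · rw [e2, hE]; simpa [hπF, h2.symm, h4.symm, hF] using hc y F'
      by_cases e3 : z = F'
      · rw [e3, hF]; simpa [hπE, h1.symm, h3.symm, hE] using hc y E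
      simpa [hπo z e0 e1 e2 e3, e0, e1] using hc y z
    have hxu : ap x (ap g (e i)) = ap g (e i) := h.ext fun z => by
      rw [hcx _ u3 u4]
      split_ifs with e0 e1
      · rw [e0, hcR, hcP]; linear_combination cP * hR
      · rw [e1, hcP, hcR]; linear_combination cR * hP
      · rfl
    obtain ⟨l, c, hc', hl⟩ := h.perm_images hxM hg (i := i) ⟨i, 1, by rw [one_smul, hxu]⟩ j
    refine ⟨l, c, hc', fun z => ?_⟩
    have := congrArg (co Q e a z) hl
    rw [hcx _ v3 v4, co_smul] at this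
    rw [this, ← mul_assoc, hc', one_mul]
  obtain ⟨π₁, hs₁, p1, p2, p3, p4, p5, p6⟩ := double_swap (i := B') (j := D) (k := E) (l := F') (m := A) (n := C)
    ((List.Perm.nodup_iff (l₂ := [B', D, E, F', A, C]) (by
      refine (List.perm_iff_count).2 fun z => ?_
      simp only [List.count_cons, List.count_nil]
      omega)).1 hn)
  obtain ⟨π₂, hs₂, r1, r2, r3, r4, r5, r6⟩ := double_swap (i := B') (j := C) (k := E) (l := F') (m := A) (n := D)
    ((List.Perm.nodup_iff (l₂ := [B', C, E, F', A, D]) (by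
      refine (List.perm_iff_count).2 fun z => ?_
      simp only [List.count_cons, List.count_nil]
      omega)).1 hn)
  obtain ⟨l₁, c₁, hc₁, hl₁⟩ := step π₁ hs₁ B' D (δ * α) (δ' * β)
    (by linear_combination (4 * α * α) * hδ + h4) (by linear_combination (4 * β * β) * hδ' + h4') b2 u1 u2
    p1 p2 b3 b4 d1.symm.symm d2 p3 p4 (fun z z1 z2 z3 z4 => by
      rcases six_cov hn z with e0 | e0 | e0 | e0 | e0 | e0
      exacts [e0 ▸ p5, absurd e0 z1, e0 ▸ p6, absurd e0 z2, absurd e0 z3, absurd e0 z4])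
  obtain ⟨l₂, c₂, hc₂, hl₂⟩ := step π₂ hs₂ B' C (δ * α) β
    (by linear_combination (4 * α * α) * hδ + h4) (by linear_combination h4') b1 u1 hβ.symm
    r1 r2 b3 b4 c2 c3 r3 r4 (fun z z1 z2 z3 z4 => by
      rcases six_cov hn z with e0 | e0 | e0 | e0 | e0 | e0
      exacts [e0 ▸ r5, absurd e0 z1, absurd e0 z2, e0 ▸ r6, absurd e0 z3, absurd e0 z4])
  have w1A : co Q e a A (ap g (e l₁)) = c₁ * (k * α) := by
    rw [hl₁, if_neg a1, if_neg a3, ← hα', ka]
  have w1B : co Q e a B' (ap g (e l₁)) = -(c₁ * k * δ * α) := by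
    rw [hl₁, if_pos rfl, v2, kb]
    linear_combination (-4 * c₁ * k * δ * α * β * β) * hδ' - c₁ * k * δ * α * h4'
  have w1C : co Q e a C (ap g (e l₁)) = -(c₁ * k * β) := by
    rw [hl₁, if_neg b1.symm, if_neg c1, ← hβ', kb]
    ring
  have w1D : co Q e a D (ap g (e l₁)) = c₁ * k * δ' * β := by
    rw [hl₁, if_neg b2.symm, if_pos rfl, v1, ka]
    linear_combination (4 * c₁ * k * δ' * α * α * β) * hδ + c₁ * k * δ' * β * h4
  have w1E : co Q e a E (ap g (e l₁)) = 0 := by rw [hl₁, if_neg b3.symm, if_neg d1.symm, v3, mul_zero]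
  have w1F : co Q e a F' (ap g (e l₁)) = 0 := by rw [hl₁, if_neg b4.symm, if_neg d2.symm, v4, mul_zero]
  have w2A : co Q e a A (ap g (e l₂)) = c₂ * (k * α) := by
    rw [hl₂, if_neg a1, if_neg a2, ← hα', ka]
  have w2B : co Q e a B' (ap g (e l₂)) = -(c₂ * k * δ * α) := by
    rw [hl₂, if_pos rfl, ← hβ', kb]
    linear_combination (-(c₂ * k * δ * α)) * h4'
  have w2C : co Q e a C (ap g (e l₂)) = c₂ * k * β := by
    rw [hl₂, if_neg b1.symm, if_pos rfl, v1, ka]
    linear_combination (4 * c₂ * k * α * α * β) * hδ + c₂ * k * β * h4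
  have w2D : co Q e a D (ap g (e l₂)) = -(c₂ * k * δ' * β) := by
    rw [hl₂, if_neg b2.symm, if_neg c1.symm, v2, kb]
    ring
  have hck1 : c₁ * k ≠ 0 := mul_ne_zero (left_ne_zero_of_mul_eq_one hc₁) (left_ne_zero_of_mul_eq_one hk2)
  have hck2 : c₂ * k ≠ 0 := mul_ne_zero (left_ne_zero_of_mul_eq_one hc₂) (left_ne_zero_of_mul_eq_one hk2)
  have hd0 : δ ≠ 0 := left_ne_zero_of_mul_eq_one hδ
  -- two members left for the plane `E, F`
  obtain ⟨m₁, m₂, hmm, hm⟩ : ∃ m₁ m₂ : Fin 6, m₁ ≠ m₂ ∧ ∀ m, m = m₁ ∨ m = m₂ →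
      m ≠ i ∧ m ≠ j ∧ m ≠ l₁ ∧ m ≠ l₂ := by
    have : ∀ a b c d : Fin 6, ∃ m₁ m₂ : Fin 6, m₁ ≠ m₂ ∧ ∀ m, m = m₁ ∨ m = m₂ →
        m ≠ a ∧ m ≠ b ∧ m ≠ c ∧ m ≠ d := by decide +kernel
    exact this i j l₁ l₂
  refine h.mono_of_plane hg hmm (k := E) (l := F') e1 ?_ ?_ <;>
  · intro z hz
    have main : ∀ m, m = m₁ ∨ m = m₂ → z ≠ E → z ≠ F' → co Q e a z (ap g (e m)) = 0 := by
      intro m hmm' hzE hzF
      obtain ⟨n1, n2, n3, n4⟩ := hm m hmm'
      obtain ⟨y, hy⟩ : ∃ y, y = ap g (e m) := ⟨_, rfl⟩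
      have q1 := h.orth i m n1.symm
      have q2 := h.orth j m n2.symm
      have q3 := h.orth l₁ m n3.symm
      have q4 := h.orth l₂ m n4.symm
      rw [← ap_b g, h.b_eq, sum_six hn, mul_eq_zero, or_iff_right h.two_a, ← hy] at q1 q2 q3 q4
      rw [u1, u2, u3, u4, ← hα, ← hβ] at q1
      rw [v1, v2, v3, v4, ← hα', ← hβ', ka, kb] at q2
      rw [w1A, w1B, w1C, w1D, w1E, w1F] at q3
      have w2E : co Q e a E (ap g (e l₂)) = 0 := by rw [hl₂, if_neg b3.symm, if_neg c2.symm, v3, mul_zero]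
      have w2F : co Q e a F' (ap g (e l₂)) = 0 := by rw [hl₂, if_neg b4.symm, if_neg c3.symm, v4, mul_zero]
      rw [w2A, w2B, w2C, w2D, w2E, w2F] at q4
      have q2' : α * co Q e a A y + δ * α * co Q e a B' y - β * co Q e a C y - δ' * β * co Q e a D y = 0 :=
        mul_left_cancel₀ (left_ne_zero_of_mul_eq_one hk2) (by linear_combination q2)
      have q3' : α * co Q e a A y - δ * α * co Q e a B' y - β * co Q e a C y + δ' * β * co Q e a D y = 0 :=
        mul_left_cancel₀ hck1 (by linear_combination q3)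
      have q4' : α * co Q e a A y - δ * α * co Q e a B' y + β * co Q e a C y - δ' * β * co Q e a D y = 0 :=
        mul_left_cancel₀ hck2 (by linear_combination q4)
      have h22 : (2 : F) * 2 ≠ 0 := mul_ne_zero h.two h.two
      have yA : co Q e a A y = 0 := mul_left_cancel₀ (mul_ne_zero h22 hα0) (by
        rw [mul_zero]; linear_combination q1 + q2' + q3' + q4')
      have yB : co Q e a B' y = 0 := mul_left_cancel₀ (mul_ne_zero h22 (mul_ne_zero hd0 hα0)) (by
        rw [mul_zero]; linear_combination q1 + q2' - q3' - q4')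
      have yC : co Q e a C y = 0 := mul_left_cancel₀ (mul_ne_zero h22 hβ0) (by
        rw [mul_zero]; linear_combination q1 - q2' - q3' + q4')
      have yD : co Q e a D y = 0 := mul_left_cancel₀
        (mul_ne_zero h22 (mul_ne_zero (left_ne_zero_of_mul_eq_one hδ') hβ0)) (by
          rw [mul_zero]; linear_combination q1 - q2' + q3' - q4')
      rw [← hy]
      rcases six_cov hn z with e0 | e0 | e0 | e0 | e0 | e0
      exacts [e0 ▸ yA, e0 ▸ yB, e0 ▸ yC, e0 ▸ yD, absurd e0 hzE, absurd e0 hzF]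
    by_contra hc
    simp only [Finset.mem_insert, Finset.mem_singleton, not_or] at hc
    first
      | exact mem_supp.1 hz (main m₁ (Or.inl rfl) hc.1 hc.2)
      | exact mem_supp.1 hz (main m₂ (Or.inr rfl) hc.1 hc.2)

/-- A conjugate of a pair of signs acting as a double transposition. -/
theorem tied_mono {g : Grp Q} (hg : g ∈ M) {i j A B' C D E F' : Fin 6} (hij : i ≠ j)
    (hn : [A, B', C, D, E, F'].Nodup) {δ δ' : F} (hδ : δ * δ = 1) (hδ' : δ' * δ' = 1)
    (hu : Tied Q e a A B' C D E F' δ δ' (ap g (e i))) (hv : Tied Q e a A B' C D E F' δ δ' (ap g (e j)))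
    {s x : Grp Q} (hs : Sign e a s {i, j}) (hxM : x ∈ M) (hx : Sign e a x {A, B'})
    (hxs : (g⁻¹ * x * g) * s = s * (g⁻¹ * x * g)) : Mono e g := by
  obtain ⟨a1, a2, a3, a4, a5, b1, b2, b3, b4, c1, c2, c3, d1, d2, e1⟩ := six_ne hn
  have hm := h.cent_pair hij hs (M.mul_mem (M.mul_mem (M.inv_mem hg) hxM) hg) hxs
  obtain ⟨l, c, hc, hl⟩ := h.mono_sign hm i
  have hl' : l = i ∨ l = j := by
    have := (h.sign_cent hs hxs).1 i (by simp)
    rw [hl, h.supp_smul_e (left_ne_zero_of_mul_eq_one hc), Finset.singleton_subset_iff] at this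
    simpa using this
  have hxu : ap x (ap g (e i)) = c • ap g (e l) := ap_inj g⁻¹ (by
    rw [ap_smul, ap_inv_ap, ← hl, ap_mul, ap_mul])
  have ⟨u1, u2, u3, u4⟩ := hu
  have hcA : co Q e a A (ap x (ap g (e i))) = -co Q e a A (ap g (e i)) := by rw [hx]; simp
  have hcB : co Q e a B' (ap x (ap g (e i))) = -co Q e a B' (ap g (e i)) := by rw [hx]; simp
  have hcC : co Q e a C (ap x (ap g (e i))) = co Q e a C (ap g (e i)) := by
    rw [hx]; simp [a2.symm, b1.symm]
  have hcD : co Q e a D (ap x (ap g (e i))) = co Q e a D (ap g (e i)) := by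
    rw [hx]; simp [a3.symm, b2.symm]
  rcases hl' with rfl | rfl
  · have hA := congrArg (co Q e a A) hxu
    rw [hcA, co_smul] at hA
    have hC' := congrArg (co Q e a C) hxu
    rw [hcC, co_smul] at hC'
    by_cases hC0 : co Q e a C (ap g (e l)) = 0
    · exact (h.tied_axis hg hij hn hδ hδ' hu hv hC0).elim
    · have hc1 : c = 1 := mul_right_cancel₀ hC0 (by rw [one_mul, ← hC'])
      rw [hc1, one_mul] at hA
      have hA0 : co Q e a A (ap g (e l)) = 0 :=
        (mul_eq_zero.1 (show (2 : F) * co Q e a A (ap g (e l)) = 0 by linear_combination -hA)).resolve_left h.two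
      exact (h.tied_axis hg hij (six_pp hn) hδ' hδ ⟨u2, u1, u3, u4⟩ ⟨hv.2.1, hv.1, hv.2.2.1, hv.2.2.2⟩ hA0).elim
  · refine h.tied_quad hg hij hn hδ hδ' hu hv ?_
    have hb : B (ap g (e i)) (ap x (ap g (e i))) = 0 := by
      rw [hxu, b_smul_right, ap_b, h.orth i l hij, mul_zero]
    rw [h.b_eq, sum_six hn, hcA, hcB, hcC, hcD, u1, u2, u3, u4, mul_eq_zero, or_iff_right h.two_a] at hb
    exact mul_left_cancel₀ h.two (by linear_combination -hb -
      (co Q e a A (ap g (e i)) * co Q e a A (ap g (e i))) * hδ +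
      (co Q e a C (ap g (e i)) * co Q e a C (ap g (e i))) * hδ')


/-- A plane spanned by two members holds no three orthogonal anisotropic vectors. -/
theorem no_three {i j : Fin 6} (hij : i ≠ j) {u v w : ι → F}
    (hu : supp Q e a u ⊆ {i, j}) (hv : supp Q e a v ⊆ {i, j}) (hw : supp Q e a w ⊆ {i, j})
    (qu : Q u ≠ 0) (qv : Q v ≠ 0) (qw : Q w ≠ 0) (huv : B u v = 0) (huw : B u w = 0) (hvw : B v w = 0) :
    False := by
  obtain ⟨k, l, m, n, hn, -⟩ := pick_four i j hij
  obtain ⟨a1, a2, a3, a4, a5, b1, b2, b3, b4, -⟩ := six_ne hn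
  have hz : ∀ x, supp Q e a x ⊆ {i, j} → ∀ z, z ≠ i → z ≠ j → co Q e a z x = 0 := fun x hx z h1 h2 =>
    notMem_supp.1 fun h3 => by have := hx h3; simp [h1, h2] at this
  have hb : ∀ x y : ι → F, supp Q e a x ⊆ {i, j} → B x y = 0 →
      co Q e a i x * co Q e a i y + co Q e a j x * co Q e a j y = 0 := fun x y hx hxy => by
    rw [h.b_eq, sum_six hn, hz x hx k a2.symm b1.symm, hz x hx l a3.symm b2.symm, hz x hx m a4.symm b3.symm,
      hz x hx n a5.symm b4.symm, mul_eq_zero, or_iff_right h.two_a] at hxy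
    linear_combination hxy
  have hq : ∀ x : ι → F, supp Q e a x ⊆ {i, j} → Q x =
      a * (co Q e a i x * co Q e a i x + co Q e a j x * co Q e a j x) := fun x hx => by
    rw [h.q_eq, sum_six hn, hz x hx k a2.symm b1.symm, hz x hx l a3.symm b2.symm, hz x hx m a4.symm b3.symm,
      hz x hx n a5.symm b4.symm]
    ring
  rw [hq u hu] at qu
  rw [hq v hv] at qv
  rw [hq w hw] at qw
  replace huv := hb u v hu huv
  replace huw := hb u w hu huw
  replace hvw := hb v w hv hvw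
  generalize co Q e a i u = u1, co Q e a j u = u2, co Q e a i v = v1, co Q e a j v = v2,
    co Q e a i w = w1, co Q e a j w = w2 at *
  have hd : v1 * w2 - v2 * w1 = 0 := by
    have e1 : u1 * (v1 * w2 - v2 * w1) = 0 := by linear_combination w2 * huv - v2 * huw
    have e2 : u2 * (v1 * w2 - v2 * w1) = 0 := by linear_combination -w1 * huv + v1 * huw
    rcases mul_eq_zero.1 e1 with h1 | h1
    · rcases mul_eq_zero.1 e2 with h2 | h2
      · exact absurd (by rw [h1, h2]; ring) qu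
      · exact h2
    · exact h1
  have hv' : v1 * v1 + v2 * v2 ≠ 0 := fun h0 => qv (by rw [h0, mul_zero])
  have e3 : (v1 * v1 + v2 * v2) * w1 = 0 := by linear_combination v1 * hvw - v2 * hd
  have e4 : (v1 * v1 + v2 * v2) * w2 = 0 := by linear_combination v2 * hvw + v1 * hd
  exact qw (by rw [(mul_eq_zero.1 e3).resolve_left hv', (mul_eq_zero.1 e4).resolve_left hv']; ring)

/-- The facts about a monomial conjugate of a pair of signs. -/
theorem conj_facts {g s : Grp Q} {i j : Fin 6} (hij : i ≠ j) (hs : Sign e a s {i, j})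
    {π : Equiv.Perm (Fin 6)} {ε : Fin 6 → F} (ht : Acts e (g * s * g⁻¹) π ε) :
    (∀ z, π (π z) = z ∧ ε (π z) = ε z) ∧
    (∀ y, y = i ∨ y = j → ∀ z, co Q e a (π z) (ap g (e y)) = -(ε z * co Q e a z (ap g (e y)))) ∧
    (∀ y₁ y₂ y₃ : ι → F, (∀ y, y = y₁ ∨ y = y₂ ∨ y = y₃ → ap (g * s * g⁻¹) y = -y ∧ Q y ≠ 0) →
      B y₁ y₂ = 0 → B y₁ y₃ = 0 → B y₂ y₃ = 0 → False) := by
  have htt : g * s * g⁻¹ * (g * s * g⁻¹) = 1 := by
    rw [show g * s * g⁻¹ * (g * s * g⁻¹) = g * (s * s) * g⁻¹ by group, h.sign_self hs, mul_one, mul_inv_cancel]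
  refine ⟨fun z => ?_, fun y hy z => ?_, fun y₁ y₂ y₃ hy h12 h13 h23 => ?_⟩
  · have h1 := (acts_mul ht ht z).2
    rw [htt, ap_one, Equiv.Perm.mul_apply] at h1
    have h2 : π (π z) = z := by
      by_contra hne
      have := congrArg (co Q e a z) h1
      rw [co_smul, h.co_self, h.co_ne (Ne.symm hne), mul_zero] at this
      exact one_ne_zero this
    refine ⟨h2, ?_⟩
    rw [h2] at h1
    have := congrArg (co Q e a z) h1
    rw [co_smul, h.co_self, mul_one] at this
    linear_combination (-ε (π z)) * (ht z).1 - ε z * this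
  · have h1 : ap (g * s * g⁻¹) (ap g (e y)) = -ap g (e y) := by
      rw [ap_mul, ap_inv_ap, ap_mul, h.sign_apply hs, if_pos (by simpa using hy), ap_smul, neg_one_smul]
    have h2 := co_acts h.toFrame ht z (ap g (e y))
    rw [h1, ← neg_one_smul F (ap g (e y)), co_smul] at h2
    linear_combination -h2
  · have hpull : ∀ y, y = y₁ ∨ y = y₂ ∨ y = y₃ → supp Q e a (ap g⁻¹ y) ⊆ {i, j} := fun y hy' z hz => by
      by_contra hc
      obtain ⟨h1, -⟩ := hy y hy'
      have h2 := congrArg (ap g⁻¹) h1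
      rw [ap_mul, ap_mul, ap_inv_ap, ← neg_one_smul F y, ap_smul] at h2
      have h3 := congrArg (co Q e a z) h2
      rw [co_smul, hs, if_neg hc, one_mul] at h3
      exact mem_supp.1 hz ((mul_eq_zero.1 (show (2 : F) * co Q e a z (ap g⁻¹ y) = 0 by
        linear_combination h3)).resolve_left h.two)
    exact h.no_three hij (hpull _ (Or.inl rfl)) (hpull _ (Or.inr (Or.inl rfl)))
      (hpull _ (Or.inr (Or.inr rfl))) (by rw [ap_q]; exact (hy _ (Or.inl rfl)).2)
      (by rw [ap_q]; exact (hy _ (Or.inr (Or.inl rfl))).2)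
      (by rw [ap_q]; exact (hy _ (Or.inr (Or.inr rfl))).2)
      (by rw [ap_b]; exact h12) (by rw [ap_b]; exact h13) (by rw [ap_b]; exact h23)

/-- The negated vector of a moved member. -/
theorem neg_moved {t : Grp Q} {π : Equiv.Perm (Fin 6)} {ε : Fin 6 → F} (ht : Acts e t π ε)
    (hinv : ∀ z, π (π z) = z ∧ ε (π z) = ε z) {z : Fin 6} (hz : π z ≠ z) :
    ap t (e z + (-ε z) • e (π z)) = -(e z + (-ε z) • e (π z)) ∧ Q (e z + (-ε z) • e (π z)) ≠ 0 := by
  refine ⟨?_, ?_⟩
  · rw [ap_add, ap_smul, (ht z).2, (ht (π z)).2, (hinv z).1, (hinv z).2, smul_smul,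
      show -ε z * ε z = -1 by linear_combination -(ht z).1]
    module
  · rw [q_add, q_smul, h.q, h.q, b_smul_right, h.orth z (π z) (Ne.symm hz)]
    intro h0
    exact mul_ne_zero h.two h.a0 (by linear_combination h0 - a * (ht z).1)

/-- The negated member of a flipped fixed point. -/
theorem neg_fixed {t : Grp Q} {π : Equiv.Perm (Fin 6)} {ε : Fin 6 → F} (ht : Acts e t π ε)
    {z : Fin 6} (hz : π z = z) (hε : ε z ≠ 1) : ap t (e z) = -(e z) ∧ Q (e z) ≠ 0 := by
  refine ⟨?_, by rw [h.q]; exact h.a0⟩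
  rw [(ht z).2, hz, (mul_self_eq_one_iff.1 (ht z).1).resolve_left hε, neg_one_smul]

/-- A monomial conjugate with even permutation. -/
theorem fusion_even {g s : Grp Q} (hg : g ∈ M) {i j : Fin 6} (hij : i ≠ j) (hs : Sign e a s {i, j})
    {π : Equiv.Perm (Fin 6)} {ε : Fin 6 → F} (ht : Acts e (g * s * g⁻¹) π ε)
    (hπ : Equiv.Perm.sign π = 1) : Mono e g := by
  classical
  obtain ⟨hinv, hco, hthree⟩ := h.conj_facts hij hs ht
  by_cases h1 : π = 1
  · subst h1
    obtain ⟨S, hS⟩ : ∃ S : Finset (Fin 6), S = Finset.univ.filter fun z => ε z ≠ 1 := ⟨_, rfl⟩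
    have hS2 : S.card ≤ 2 := by
      by_contra hc
      obtain ⟨x, y, z, hx, hy, hz, hxy, hxz, hyz⟩ := Finset.two_lt_card_iff.1 (not_le.1 hc)
      simp only [hS, Finset.mem_filter, Finset.mem_univ, true_and] at hx hy hz
      refine hthree (e x) (e y) (e z) ?_ (h.orth x y hxy) (h.orth x z hxz) (h.orth y z hyz)
      rintro w (rfl | rfl | rfl)
      exacts [h.neg_fixed ht rfl hx, h.neg_fixed ht rfl hy, h.neg_fixed ht rfl hz]
    obtain ⟨P, hP, hP2⟩ := Finset.exists_superset_card_eq hS2 (by simp)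
    obtain ⟨k, l, hkl, rfl⟩ := Finset.card_eq_two.1 hP2
    have hsub : ∀ y, y = i ∨ y = j → supp Q e a (ap g (e y)) ⊆ {k, l} := fun y hy z hz => hP (by
      rw [hS, Finset.mem_filter]
      refine ⟨Finset.mem_univ z, fun hε => mem_supp.1 hz ?_⟩
      have h2 := hco y hy z
      rw [Equiv.Perm.one_apply, hε, one_mul] at h2
      exact (mul_eq_zero.1 (show (2 : F) * co Q e a z (ap g (e y)) = 0 by linear_combination h2)).resolve_left h.two)
    exact h.mono_of_plane hg hij hkl (hsub i (Or.inl rfl)) (hsub j (Or.inr rfl))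
  obtain ⟨A, hA⟩ : ∃ A, π A ≠ A := not_forall.1 fun hc => h1 (Equiv.ext fun z => by rw [hc, Equiv.Perm.one_apply])
  obtain ⟨C, hCA, hCB, hC⟩ : ∃ C, C ≠ A ∧ C ≠ π A ∧ π C ≠ C := by
    by_contra hc
    push Not at hc
    have : π = Equiv.swap A (π A) := Equiv.ext fun z => by
      by_cases e0 : z = A
      · rw [e0, Equiv.swap_apply_left]
      by_cases e1 : z = π A
      · rw [e1, Equiv.swap_apply_right, (hinv A).1]
      rw [Equiv.swap_apply_of_ne_of_ne e0 e1, hc z e0 e1]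
    rw [this, Equiv.Perm.sign_swap (Ne.symm hA)] at hπ
    exact absurd hπ (by decide)
  have hi : ∀ z, π (π z) = z := fun z => (hinv z).1
  have hDA : π C ≠ A := fun e0 => hCB (by rw [← e0, hi])
  have hDB : π C ≠ π A := π.injective.ne hCA
  obtain ⟨E, F', hEF, hn⟩ : ∃ E F', E ≠ F' ∧ [A, π A, C, π C, E, F'].Nodup := by
    have : ∀ a b c d : Fin 6, [a, b, c, d].Nodup → ∃ x y, x ≠ y ∧ [a, b, c, d, x, y].Nodup := by decide +kernel
    refine this A (π A) C (π C) ?_
    simp [Ne.symm hA, Ne.symm hCA, Ne.symm hDA, Ne.symm hCB, Ne.symm hDB, Ne.symm hC]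
  obtain ⟨a1, a2, a3, a4, a5, b1, b2, b3, b4, c1, c2, c3, d1, d2, e1⟩ := six_ne hn
  have horthAC : B (e A + (-ε A) • e (π A)) (e C + (-ε C) • e (π C)) = 0 := by
    simp only [b_add_left, b_add_right, b_smul_left, b_smul_right, h.orth _ _ a2, h.orth _ _ a3,
      h.orth _ _ b1, h.orth _ _ b2]
    ring
  have hfix : ∀ Y, A ≠ Y → π A ≠ Y → C ≠ Y → π C ≠ Y → π Y = Y ∧ ε Y = 1 := by
    intro Y y1 y2 y3 y4
    by_cases hY : π Y = Y
    · refine ⟨hY, by_contra fun hε => hthree _ _ (e Y) ?_ horthAC ?_ ?_⟩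
      · rintro w (rfl | rfl | rfl)
        exacts [h.neg_moved ht hinv hA, h.neg_moved ht hinv hC, h.neg_fixed ht hY hε]
      · simp only [b_add_left, b_smul_left, h.orth _ _ y1, h.orth _ _ y2]; ring
      · simp only [b_add_left, b_smul_left, h.orth _ _ y3, h.orth _ _ y4]; ring
    · exfalso
      have z1 : A ≠ π Y := fun e0 => y2 (by rw [e0, hi])
      have z2 : π A ≠ π Y := π.injective.ne y1
      have z3 : C ≠ π Y := fun e0 => y4 (by rw [e0, hi])
      have z4 : π C ≠ π Y := π.injective.ne y3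
      refine hthree _ _ (e Y + (-ε Y) • e (π Y)) ?_ horthAC ?_ ?_
      · rintro w (rfl | rfl | rfl)
        exacts [h.neg_moved ht hinv hA, h.neg_moved ht hinv hC, h.neg_moved ht hinv hY]
      · simp only [b_add_left, b_add_right, b_smul_left, b_smul_right, h.orth _ _ y1, h.orth _ _ y2,
          h.orth _ _ z1, h.orth _ _ z2]
        ring
      · simp only [b_add_left, b_add_right, b_smul_left, b_smul_right, h.orth _ _ y3, h.orth _ _ y4,
          h.orth _ _ z3, h.orth _ _ z4]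
        ring
  obtain ⟨hπE, hεE⟩ := hfix E a4 b3 c2 d1
  obtain ⟨hπF, hεF⟩ := hfix F' a5 b4 c3 d2
  have htied : ∀ y, y = i ∨ y = j → Tied Q e a A (π A) C (π C) E F' (-ε A) (-ε C) (ap g (e y)) := fun y hy => by
    refine ⟨by rw [hco y hy A]; ring, by rw [hco y hy C]; ring, ?_, ?_⟩
    · have := hco y hy E
      rw [hπE, hεE, one_mul] at this
      exact (mul_eq_zero.1 (show (2 : F) * co Q e a E (ap g (e y)) = 0 by linear_combination this)).resolve_left h.two
    · have := hco y hy F'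
      rw [hπF, hεF, one_mul] at this
      exact (mul_eq_zero.1 (show (2 : F) * co Q e a F' (ap g (e y)) = 0 by linear_combination this)).resolve_left h.two
  obtain ⟨x, hxM, hx⟩ := h.exists_flip a1
  have hmem : ∀ z, (π z ∈ ({A, π A} : Finset (Fin 6))) ↔ z ∈ ({A, π A} : Finset (Fin 6)) := fun z => by
    simp only [Finset.mem_insert, Finset.mem_singleton]
    constructor
    · rintro (e0 | e0)
      · exact Or.inr (by rw [← e0, hi])
      · exact Or.inl (π.injective e0)
    · rintro (rfl | rfl)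
      · exact Or.inr rfl
      · exact Or.inl (hi A)
  have hcomm : x * (g * s * g⁻¹) = g * s * g⁻¹ * x :=
    acts_comm h.toFrame (acts_sign h.toFrame hx) ht (fun z => by simp) fun z => by
      simp only [Equiv.Perm.one_apply, hmem]
      ring
  refine h.tied_mono hg hij hn (by linear_combination (ht A).1) (by linear_combination (ht C).1)
    (htied i (Or.inl rfl)) (htied j (Or.inr rfl)) hs hxM hx ?_
  calc g⁻¹ * x * g * s = g⁻¹ * (x * (g * s * g⁻¹)) * g := by group
    _ = g⁻¹ * (g * s * g⁻¹ * x) * g := by rw [hcomm]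
    _ = s * (g⁻¹ * x * g) := by group

/-- A pair of signs is conjugate to a monomial element only by monomial elements. -/
theorem fusion {g s : Grp Q} (hg : g ∈ M) {i j : Fin 6} (hij : i ≠ j) (hs : Sign e a s {i, j})
    (hm : Mono e (g * s * g⁻¹)) : Mono e g := by
  classical
  obtain ⟨π, ε, ht⟩ := acts_of_mono h.toFrame hm
  rcases Int.units_eq_one_or (Equiv.Perm.sign π) with hπ | hπ
  · exact h.fusion_even hg hij hs ht hπ
  obtain ⟨hinv, hco, hthree⟩ := h.conj_facts hij hs ht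
  obtain ⟨A, hA⟩ : ∃ A, π A ≠ A := not_forall.1 fun hc => by
    rw [show π = 1 from Equiv.ext fun z => by rw [hc, Equiv.Perm.one_apply], map_one] at hπ
    exact absurd hπ (by decide)
  by_cases hsecond : ∃ C, C ≠ A ∧ C ≠ π A ∧ π C ≠ C
  · exfalso
    obtain ⟨C, hCA, hCB, hC⟩ := hsecond
    have hi : ∀ z, π (π z) = z := fun z => (hinv z).1
    have hDA : π C ≠ A := fun e0 => hCB (by rw [← e0, hi])
    have hDB : π C ≠ π A := π.injective.ne hCA
    obtain ⟨Y, hY, y1, y2, y3, y4⟩ : ∃ Y, π Y ≠ Y ∧ A ≠ Y ∧ π A ≠ Y ∧ C ≠ Y ∧ π C ≠ Y := by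
      by_contra hc
      push Not at hc
      have hp : π = Equiv.swap A (π A) * Equiv.swap C (π C) := Equiv.ext fun z => by
        rw [Equiv.Perm.mul_apply]
        by_cases e2 : z = C
        · rw [e2, Equiv.swap_apply_left, Equiv.swap_apply_of_ne_of_ne hDA hDB]
        by_cases e3 : z = π C
        · rw [e3, Equiv.swap_apply_right, Equiv.swap_apply_of_ne_of_ne hCA hCB, hi]
        rw [Equiv.swap_apply_of_ne_of_ne e2 e3]
        by_cases e0 : z = A
        · rw [e0, Equiv.swap_apply_left]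
        by_cases e1 : z = π A
        · rw [e1, Equiv.swap_apply_right, hi]
        rw [Equiv.swap_apply_of_ne_of_ne e0 e1]
        by_contra hne
        exact Ne.symm e3 (hc z hne (Ne.symm e0) (Ne.symm e1) (Ne.symm e2))
      rw [hp, map_mul, Equiv.Perm.sign_swap (Ne.symm hA), Equiv.Perm.sign_swap (Ne.symm hC)] at hπ
      exact absurd hπ (by decide)
    have z1 : A ≠ π Y := fun e0 => y2 (by rw [e0, hi])
    have z2 : π A ≠ π Y := π.injective.ne y1
    have z3 : C ≠ π Y := fun e0 => y4 (by rw [e0, hi])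
    have z4 : π C ≠ π Y := π.injective.ne y3
    refine hthree (e A + (-ε A) • e (π A)) (e C + (-ε C) • e (π C)) (e Y + (-ε Y) • e (π Y)) ?_ ?_ ?_ ?_
    · rintro w (rfl | rfl | rfl)
      exacts [h.neg_moved ht hinv hA, h.neg_moved ht hinv hC, h.neg_moved ht hinv hY]
    · simp only [b_add_left, b_add_right, b_smul_left, b_smul_right, h.orth _ _ (Ne.symm hCA), h.orth _ _ (Ne.symm hCB),
        h.orth _ _ (Ne.symm hDA), h.orth _ _ (Ne.symm hDB)]
      ring
    · simp only [b_add_left, b_add_right, b_smul_left, b_smul_right, h.orth _ _ y1, h.orth _ _ y2,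
        h.orth _ _ z1, h.orth _ _ z2]
      ring
    · simp only [b_add_left, b_add_right, b_smul_left, b_smul_right, h.orth _ _ y3, h.orth _ _ y4,
        h.orth _ _ z3, h.orth _ _ z4]
      ring
  push Not at hsecond
  obtain ⟨C, D, E, F', hn, -⟩ := pick_four A (π A) (Ne.symm hA)
  -- at most one flipped fixed point
  have hone : ∀ X Y, X ≠ Y → X ≠ A → X ≠ π A → Y ≠ A → Y ≠ π A → ε X = 1 ∨ ε Y = 1 := by
    intro X Y hXY x1 x2 y1 y2
    by_contra hc
    rw [not_or] at hc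
    refine hthree (e A + (-ε A) • e (π A)) (e X) (e Y) ?_ ?_ ?_ (h.orth X Y hXY)
    · rintro w (rfl | rfl | rfl)
      exacts [h.neg_moved ht hinv hA, h.neg_fixed ht (hsecond X x1 x2) hc.1, h.neg_fixed ht (hsecond Y y1 y2) hc.2]
    · simp only [b_add_left, b_smul_left, h.orth _ _ (Ne.symm x1), h.orth _ _ (Ne.symm x2)]; ring
    · simp only [b_add_left, b_smul_left, h.orth _ _ (Ne.symm y1), h.orth _ _ (Ne.symm y2)]; ring
  obtain ⟨a1, a2, a3, a4, a5, b1, b2, b3, b4, c1, c2, c3, d1, d2, e1⟩ := six_ne hn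
  obtain ⟨X, Y, Z, hXY, hXZ, hYZ, hX, hY, hZ⟩ : ∃ X Y Z, X ≠ Y ∧ X ≠ Z ∧ Y ≠ Z ∧
      (X ≠ A ∧ X ≠ π A ∧ ε X = 1) ∧ (Y ≠ A ∧ Y ≠ π A ∧ ε Y = 1) ∧ (Z ≠ A ∧ Z ≠ π A ∧ ε Z = 1) := by
    by_cases hC : ε C = 1
    · by_cases hD : ε D = 1
      · rcases hone E F' e1 a4.symm b3.symm a5.symm b4.symm with hE | hF
        · exact ⟨C, D, E, c1, c2, d1, ⟨a2.symm, b1.symm, hC⟩, ⟨a3.symm, b2.symm, hD⟩, ⟨a4.symm, b3.symm, hE⟩⟩
        · exact ⟨C, D, F', c1, c3, d2, ⟨a2.symm, b1.symm, hC⟩, ⟨a3.symm, b2.symm, hD⟩, ⟨a5.symm, b4.symm, hF⟩⟩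
      · exact ⟨C, E, F', c2, c3, e1, ⟨a2.symm, b1.symm, hC⟩,
          ⟨a4.symm, b3.symm, (hone D E d1 a3.symm b2.symm a4.symm b3.symm).resolve_left hD⟩,
          ⟨a5.symm, b4.symm, (hone D F' d2 a3.symm b2.symm a5.symm b4.symm).resolve_left hD⟩⟩
    · exact ⟨D, E, F', d1, d2, e1,
        ⟨a3.symm, b2.symm, (hone C D c1 a2.symm b1.symm a3.symm b2.symm).resolve_left hC⟩,
        ⟨a4.symm, b3.symm, (hone C E c2 a2.symm b1.symm a4.symm b3.symm).resolve_left hC⟩,
        ⟨a5.symm, b4.symm, (hone C F' c3 a2.symm b1.symm a5.symm b4.symm).resolve_left hC⟩⟩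
  have hzero : ∀ z, z ≠ A → z ≠ π A → ε z = 1 → ∀ y, y = i ∨ y = j → co Q e a z (ap g (e y)) = 0 := by
    intro z z1 z2 hε y hy
    have := hco y hy z
    rw [hsecond z z1 z2, hε, one_mul] at this
    exact (mul_eq_zero.1 (show (2 : F) * co Q e a z (ap g (e y)) = 0 by linear_combination this)).resolve_left h.two
  have hy : ∀ (X Y : Fin 6) (x : Grp Q), x ∈ M → Sign e a x {X, Y} → (X ≠ A ∧ X ≠ π A ∧ ε X = 1) →
      (Y ≠ A ∧ Y ≠ π A ∧ ε Y = 1) → ∃ σ η, Acts e (g⁻¹ * x * g) σ η := fun X Y x hxM hx hX hY => by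
    refine acts_of_mono h.toFrame (h.axis _ (M.mul_mem (M.mul_mem (M.inv_mem hg) hxM) hg) i ⟨i, 1, ?_⟩)
    rw [one_smul, ap_mul, ap_mul]
    conv_rhs => rw [← ap_inv_ap g (e i)]
    congr 1
    refine h.ext fun z => ?_
    rw [hx]
    split_ifs with hz
    · simp only [Finset.mem_insert, Finset.mem_singleton] at hz
      rcases hz with rfl | rfl
      · rw [hzero z hX.1 hX.2.1 hX.2.2 i (Or.inl rfl), mul_zero]
      · rw [hzero z hY.1 hY.2.1 hY.2.2 i (Or.inl rfl), mul_zero]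
    · rw [one_mul]
  have fin : ∀ (X Y : Fin 6) (x : Grp Q) σ η, X ≠ Y → Sign e a x {X, Y} → Acts e (g⁻¹ * x * g) σ η →
      Equiv.Perm.sign σ = 1 → Mono e g := fun X Y x σ η hne hx hσ hsg => by
    have := h.mono_inv (h.fusion_even (M.inv_mem hg) hne hx (by rw [inv_inv]; exact hσ) hsg)
    rwa [inv_inv] at this
  obtain ⟨x₁, hx₁M, hx₁⟩ := h.exists_flip hXY
  obtain ⟨x₂, hx₂M, hx₂⟩ := h.exists_flip hXZ
  obtain ⟨σ₁, η₁, hσ₁⟩ := hy X Y x₁ hx₁M hx₁ hX hY
  obtain ⟨σ₂, η₂, hσ₂⟩ := hy X Z x₂ hx₂M hx₂ hX hZ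
  rcases Int.units_eq_one_or (Equiv.Perm.sign σ₁) with s1 | s1
  · exact fin X Y x₁ σ₁ η₁ hXY hx₁ hσ₁ s1
  rcases Int.units_eq_one_or (Equiv.Perm.sign σ₂) with s2 | s2
  · exact fin X Z x₂ σ₂ η₂ hXZ hx₂ hσ₂ s2
  have hx₃ : Sign e a (x₁ * x₂) {Y, Z} := fun y l => by
    rw [ap_mul, hx₁, hx₂, ← mul_assoc]
    simp only [Finset.mem_insert, Finset.mem_singleton]
    by_cases e0 : l = X
    · subst e0; simp [hXY, hXZ]
    · by_cases e1 : l = Y
      · subst e1; simp [Ne.symm hXY, hYZ]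
      · by_cases e2 : l = Z
        · subst e2; simp [Ne.symm hXZ, Ne.symm hYZ]
        · simp [e0, e1, e2]
  refine fin Y Z (x₁ * x₂) (σ₁ * σ₂) (fun z => η₂ z * η₁ (σ₂ z)) hYZ hx₃ ?_ (by rw [map_mul, s1, s2]; rfl)
  have := acts_mul hσ₁ hσ₂
  rwa [show g⁻¹ * x₁ * g * (g⁻¹ * x₂ * g) = g⁻¹ * (x₁ * x₂) * g by group] at this

/-- A column with two zeros forces a monomial element. -/
theorem mono_of_zeros {g : Grp Q} (hg : g ∈ M) {i p q : Fin 6} (hpq : p ≠ q)
    (hp : co Q e a p (ap g (e i)) = 0) (hq : co Q e a q (ap g (e i)) = 0) : Mono e g := by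
  obtain ⟨s, hsM, hs⟩ := h.exists_flip hpq
  have hfix : ap s (ap g (e i)) = ap g (e i) := h.ext fun z => by
    rw [hs]
    split_ifs with hz
    · simp only [Finset.mem_insert, Finset.mem_singleton] at hz
      rcases hz with rfl | rfl
      · rw [hp, mul_zero]
      · rw [hq, mul_zero]
    · rw [one_mul]
  have hm := h.axis _ (M.mul_mem (M.mul_mem (M.inv_mem hg) hsM) hg) i
    ⟨i, 1, by rw [one_smul, ap_mul, ap_mul, hfix, ap_inv_ap]⟩
  have := h.mono_inv (h.fusion (M.inv_mem hg) hpq hs (by rwa [inv_inv]))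
  rwa [inv_inv] at this

end Over6

end CfsgLib.Orth.FrameSix
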