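import Cfsg.Agent.Lib.Classical.SLFour.FrameSix.Fusion

set_option autoImplicit false
set_option linter.unusedSectionVars false

/-!
The centraliser of a double transposition is monomial, and so is the whole group.
-/

namespace CfsgLib.Orth.FrameSix

open Matrix FrameMax

variable {F : Type*} [Field F] [Finite F] {ι : Type} [Fintype ι] [DecidableEq ι]
variable {Q : QuadraticForm F (ι → F)} {e : Fin 6 → ι → F} {a : F} {M : Subgroup (Grp Q)}

local notation "B" => QuadraticMap.polar (DFunLike.coe Q)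

/-- Two transpositions with signs. -/
def Dbl (Q : QuadraticForm F (ι → F)) (e : Fin 6 → ι → F) (a : F) (A B' C D E F' : Fin 6) (δ δ' : F)
    (x : Grp Q) : Prop :=
  ∀ y, co Q e a A (ap x y) = δ * co Q e a B' y ∧ co Q e a B' (ap x y) = δ * co Q e a A y ∧
    co Q e a C (ap x y) = δ' * co Q e a D y ∧ co Q e a D (ap x y) = δ' * co Q e a C y ∧
    co Q e a E (ap x y) = co Q e a E y ∧ co Q e a F' (ap x y) = co Q e a F' y

theorem co_neg (i : Fin 6) (y : ι → F) : co Q e a i (-y) = -co Q e a i y := by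
  rw [← neg_one_smul F y, co_smul, neg_one_mul]

/-- In a dihedral group generated by two involutions, climbing the powers of two. -/
theorem dihedral_climb {G : Type*} [Group G] [Finite G] {t z : G} (ht : t * t = 1) (hz : z * z = 1)
    (P : G → Prop) (h1 : P 1)
    (hstep : ∀ j : ℕ, P ((t * z) ^ j * (t * z) ^ j) → P ((t * z) ^ j)) :
    ∃ k j : ℕ, (t * z) ^ k * t * ((t * z) ^ k)⁻¹ = (t * z) ^ j * z ∧ P ((t * z) ^ j) ∧
      t * (t * z) ^ j = ((t * z) ^ j)⁻¹ * t := by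
  obtain ⟨u, hu⟩ : ∃ u, u = t * z := ⟨_, rfl⟩
  rw [← hu] at hstep ⊢
  obtain ⟨n, m, hm, hord⟩ := Nat.exists_eq_two_pow_mul_odd (n := orderOf u) (orderOf_pos u).ne'
  obtain ⟨k, rfl⟩ := hm
  have hti : t⁻¹ = t := inv_eq_of_mul_eq_one_right ht
  have hzi : z⁻¹ = z := inv_eq_of_mul_eq_one_right hz
  have hconj : ∀ i : ℕ, t * u ^ i = (u ^ i)⁻¹ * t := fun i => by
    induction i with
    | zero => simp
    | succ i ih =>
      have e1 : t * u = u⁻¹ * t := by rw [hu, _root_.mul_inv_rev, hti, hzi, ← mul_assoc, ht, one_mul, mul_assoc, ht, mul_one]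
      rw [pow_succ, ← mul_assoc, ih, mul_assoc, e1, ← mul_assoc, ← _root_.mul_inv_rev, ← pow_succ', pow_succ]
  have hdown : ∀ i, i ≤ n → P (u ^ ((2 * k + 1) * 2 ^ (n - i))) := by
    intro i
    induction i with
    | zero =>
      intro _
      rw [Nat.sub_zero, mul_comm, ← hord, pow_orderOf_eq_one]
      exact h1
    | succ i ih =>
      intro hi
      refine hstep _ ?_
      rw [← pow_add, ← two_mul, show 2 * ((2 * k + 1) * 2 ^ (n - (i + 1))) =
        (2 * k + 1) * 2 ^ (n - i) by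
          rw [show n - i = n - (i + 1) + 1 by omega, pow_succ]; ring]
      exact ih (by omega)
  refine ⟨k, 2 * k + 1, ?_, by simpa using hdown n le_rfl, hconj _⟩
  have e1 : t = u * z := by rw [hu, mul_assoc, hz, mul_one]
  have e2 : t * (u ^ k)⁻¹ = u ^ k * t := by
    rw [mul_inv_eq_iff_eq_mul, mul_assoc, hconj, ← mul_assoc, mul_inv_cancel, one_mul]
  rw [mul_assoc, e2, ← mul_assoc, ← pow_add]
  conv_lhs => rw [e1]
  rw [← mul_assoc, ← pow_succ, show k + k + 1 = 2 * k + 1 by ring]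

namespace Over6

variable (h : Over6 Q e a M)
include h

theorem exists_dbl {A B' C D E F' : Fin 6} (hn : [A, B', C, D, E, F'].Nodup) (δ δ' : F) (hδ : δ * δ = 1)
    (hδ' : δ' * δ' = 1) : ∃ x ∈ M, Dbl Q e a A B' C D E F' δ δ' x ∧ x * x = 1 ∧ Mono e x := by
  obtain ⟨a1, a2, a3, a4, a5, b1, b2, b3, b4, c1, c2, c3, d1, d2, e1⟩ := six_ne hn
  obtain ⟨π, hπs, hA, hB, hC, hD, hE, hF⟩ := double_swap hn
  obtain ⟨x, hxM, hx⟩ := h.exists_elem π hπs
    (fun z => if z = A ∨ z = B' then δ else if z = C ∨ z = D then δ' else 1)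
    (fun z => by split_ifs; exacts [hδ, hδ', one_mul 1])
    (by
      rw [prod_six hn]
      simp [a2.symm, a3.symm, b1.symm, b2.symm, a4.symm, a5.symm, b3.symm, b4.symm, c2.symm, c3.symm,
        d1.symm, d2.symm]
      linear_combination δ' * δ' * hδ + hδ')
  have hc := fun z y => co_acts h.toFrame hx z y
  have hd : Dbl Q e a A B' C D E F' δ δ' x := fun y => ⟨
    by simpa [hB] using hc B' y, by simpa [hA] using hc A y,
    by simpa [hD, a3.symm, b2.symm] using hc D y, by simpa [hC, a2.symm, b1.symm] using hc C y,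
    by simpa [hE, a4.symm, b3.symm, c2.symm, d1.symm] using hc E y,
    by simpa [hF, a5.symm, b4.symm, c3.symm, d2.symm] using hc F' y⟩
  refine ⟨x, hxM, hd, ext_ap fun y => ?_, mono_of_acts hx⟩
  rw [ap_one]
  refine h.ext fun z => ?_
  rw [ap_mul]
  obtain ⟨p1, p2, p3, p4, p5, p6⟩ := hd y
  obtain ⟨r1, r2, r3, r4, r5, r6⟩ := hd (ap x y)
  rcases six_cov hn z with e0 | e0 | e0 | e0 | e0 | e0 <;> rw [e0]
  · rw [r1, p2, ← mul_assoc, hδ, one_mul]
  · rw [r2, p1, ← mul_assoc, hδ, one_mul]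
  · rw [r3, p4, ← mul_assoc, hδ', one_mul]
  · rw [r4, p3, ← mul_assoc, hδ', one_mul]
  · rw [r5, p5]
  · rw [r6, p6]

omit h in
theorem dbl_neg {A B' C D E F' : Fin 6} {δ δ' : F} {x : Grp Q} (hx : Dbl Q e a A B' C D E F' δ δ' x) :
    Dbl Q e a B' A D C E F' δ δ' x := fun y => by
  obtain ⟨p1, p2, p3, p4, p5, p6⟩ := hx y
  exact ⟨p2, p1, p4, p3, p5, p6⟩

/-- A root line stays a root line. -/
theorem root_image {A B' C D E F' : Fin 6} (hn : [A, B', C, D, E, F'].Nodup) {δ δ' η : F} (hη : η * η = 1)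
    {g : Grp Q} (hg : g ∈ M)
    (hQ : ∀ y, Tied Q e a A B' E F' C D δ η y → Tied Q e a A B' E F' C D δ η (ap g y) ∧
      Tied Q e a A B' E F' C D δ η (ap g⁻¹ y))
    (hQ' : ∀ y, Tied Q e a C D E F' A B' δ' (-η) y → Tied Q e a C D E F' A B' δ' (-η) (ap g⁻¹ y))
    (hδ0 : δ ≠ 0) :
    co Q e a A (ap g⁻¹ (e E + η • e F')) = 0 ∨ co Q e a E (ap g⁻¹ (e E + η • e F')) = 0 := by
  obtain ⟨a1, a2, a3, a4, a5, b1, b2, b3, b4, c1, c2, c3, d1, d2, e1⟩ := six_ne hn
  obtain ⟨s, hsM, hs⟩ := h.exists_flip a1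
  obtain ⟨x, hx⟩ : ∃ x, x = g * s * g⁻¹ * s := ⟨_, rfl⟩
  have hxM : x ∈ M := hx ▸ M.mul_mem (M.mul_mem (M.mul_mem hg hsM) (M.inv_mem hg)) hsM
  obtain ⟨P, hP⟩ : ∃ P, P = e E + η • e F' := ⟨_, rfl⟩
  obtain ⟨N, hN⟩ : ∃ N, N = e E + (-η) • e F' := ⟨_, rfl⟩
  rw [← hP]
  have hP' : Tied Q e a A B' E F' C D δ η P := by
    rw [hP]; simp [Tied, co_add, co_smul, co_neg, h.co_e, a4, a5, b3, b4, c2, c3, d1, d2, e1, e1.symm]
  have hN' : Tied Q e a C D E F' A B' δ' (-η) N := by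
    rw [hN]; simp [Tied, co_add, co_smul, co_neg, h.co_e, a4, a5, b3, b4, c2, c3, d1, d2, e1, e1.symm]
  have hfix : ∀ y, co Q e a A y = 0 → co Q e a B' y = 0 → ap s y = y := fun y h1 h2 => h.ext fun z => by
    rw [hs]
    split_ifs with hz
    · simp only [Finset.mem_insert, Finset.mem_singleton] at hz
      rcases hz with rfl | rfl
      · rw [h1, mul_zero]
      · rw [h2, mul_zero]
    · rw [one_mul]
  have hsP : ap s P = P := by
    obtain ⟨p1, -, -, -⟩ := hP'
    have hA0 : co Q e a A P = 0 := by rw [hP]; simp [co_add, co_smul, co_neg, h.co_e, a4, a5]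
    exact hfix P hA0 (by rw [p1, hA0, mul_zero])
  have hxN : ap x N = N := by
    rw [hx, ap_mul, hfix N hN'.2.2.1 hN'.2.2.2, ap_mul, ap_mul, hfix _ (hQ' N hN').2.2.1 (hQ' N hN').2.2.2,
      ap_ap_inv]
  have hsT : ∀ y, Tied Q e a A B' E F' C D δ η y → Tied Q e a A B' E F' C D δ η (ap s y) := fun y hy => by
    obtain ⟨p1, p2, p3, p4⟩ := hy
    simp only [Tied, hs y, Finset.mem_insert, Finset.mem_singleton, true_or, or_true, if_true,
      a4.symm, b3.symm, a5.symm, b4.symm, a2.symm, b1.symm, a3.symm, b2.symm, or_self, if_false, one_mul]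
    exact ⟨by rw [p1]; ring, p2, p3, p4⟩
  have hxP : Tied Q e a A B' E F' C D δ η (ap x P) := by
    rw [hx, ap_mul, hsP, ap_mul, ap_mul]
    exact (hQ _ (hsT _ (hQ P hP').2)).1
  have h2e : ∀ z, 2 * co Q e a z (ap x (e E)) = co Q e a z (ap x P) + co Q e a z N := fun z => by
    rw [← co_smul, ← ap_smul, show (2 : F) • e E = P + N by rw [hP, hN]; module, ap_add, hxN, co_add]
  obtain ⟨p1, p2, p3, p4⟩ := hxP
  have hcC : co Q e a C (ap x (e E)) = 0 := (mul_eq_zero.1 (show (2 : F) * co Q e a C (ap x (e E)) = 0 by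
    rw [h2e, p3, hN]; simp [co_add, co_smul, co_neg, h.co_e, c2, c3])).resolve_left h.two
  have hcD : co Q e a D (ap x (e E)) = 0 := (mul_eq_zero.1 (show (2 : F) * co Q e a D (ap x (e E)) = 0 by
    rw [h2e, p4, hN]; simp [co_add, co_smul, co_neg, h.co_e, d1, d2])).resolve_left h.two
  obtain ⟨l, c, hc, hl⟩ := h.mono_sign (h.mono_of_zeros hxM c1 hcC hcD) E
  have hsingle : ∀ z z', z ≠ z' → co Q e a z (ap x (e E)) = 0 ∨ co Q e a z' (ap x (e E)) = 0 := fun z z' hzz => by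
    rw [hl, co_smul, co_smul, h.co_e, h.co_e]
    by_cases e0 : z = l
    · right; rw [if_neg (fun e1 => hzz (e0.trans e1.symm)), mul_zero]
    · left; rw [if_neg e0, mul_zero]
  have hA0 : co Q e a A (ap x P) = 0 := by
    rcases hsingle A B' a1 with h0 | h0
    · have := h2e A
      rw [h0, hN] at this; simp [co_add, co_smul, co_neg, h.co_e, a4, a5] at this
      exact this.symm
    · have := h2e B'
      rw [h0, p1, hN] at this; simp [co_add, co_smul, co_neg, h.co_e, b3, b4, hδ0] at this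
      exact this
  obtain ⟨μ, hμ⟩ : ∃ μ, μ = co Q e a E (ap x P) := ⟨_, rfl⟩
  have hμ1 : μ = 1 ∨ μ = -1 := by
    have hNE : co Q e a E N = 1 ∧ co Q e a F' N = -η := by
      rw [hN]; simp [co_add, co_smul, co_neg, h.co_e, e1, e1.symm]
    rcases hsingle E F' e1 with h0 | h0
    · have := h2e E
      rw [h0, ← hμ, hNE.1] at this
      exact Or.inr (by linear_combination -this)
    · have := h2e F'
      rw [h0, p2, ← hμ, hNE.2] at this
      exact Or.inl (mul_left_cancel₀ (left_ne_zero_of_mul_eq_one hη) (by linear_combination -this))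
  have hxPe : ap x P = μ • P := h.ext fun z => by
    rw [co_smul, hP]
    rcases six_cov hn z with e0 | e0 | e0 | e0 | e0 | e0 <;> rw [e0]
    · rw [← hP, hA0, hP]; simp [co_add, co_smul, co_neg, h.co_e, a4, a5]
    · rw [← hP, p1, hA0, hP]; simp [co_add, co_smul, co_neg, h.co_e, b3, b4]
    · rw [← hP, p3, hP]; simp [co_add, co_smul, co_neg, h.co_e, c2, c3]
    · rw [← hP, p4, hP]; simp [co_add, co_smul, co_neg, h.co_e, d1, d2]
    · rw [← hP, ← hμ, hP]; simp [co_add, co_smul, co_neg, h.co_e, e1]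
    · rw [← hP, p2, ← hμ, hP]; simp [co_add, co_smul, co_neg, h.co_e, e1.symm]; ring
  have hsy : ap s (ap g⁻¹ P) = μ • ap g⁻¹ P := ap_inj g (by
    rw [ap_smul, ap_ap_inv, ← hxPe, hx, ap_mul (g * s * g⁻¹) s, hsP, ap_mul, ap_mul])
  rcases hμ1 with rfl | h1
  · left
    have := congrArg (co Q e a A) hsy
    rw [one_smul, hs, if_pos (by simp), neg_one_mul] at this
    exact (mul_eq_zero.1 (show (2 : F) * co Q e a A (ap g⁻¹ P) = 0 by linear_combination -this)).resolve_left h.two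
  · right
    have := congrArg (co Q e a E) hsy
    rw [co_smul, hs, if_neg (by simp [a4.symm, b3.symm]), one_mul, h1] at this
    exact (mul_eq_zero.1 (show (2 : F) * co Q e a E (ap g⁻¹ P) = 0 by linear_combination this)).resolve_left h.two

/-- The centraliser of two double transpositions sharing a pair. -/
theorem cent_dbl_two {A B' C D E F' : Fin 6} (hn : [A, B', C, D, E, F'].Nodup) {δ δ' η : F}
    (hδ : δ * δ = 1) (hδ' : δ' * δ' = 1) (hη : η * η = 1) {z z2 : Grp Q}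
    (hz : Dbl Q e a A B' C D E F' δ δ' z) (hz2 : Dbl Q e a A B' E F' C D (-δ) η z2)
    {g : Grp Q} (hg : g ∈ M) (hgz : g * z = z * g) (hgz2 : g * z2 = z2 * g) : Mono e g := by
  obtain ⟨a1, a2, a3, a4, a5, b1, b2, b3, b4, c1, c2, c3, d1, d2, e1⟩ := six_ne hn
  have hT : ∀ y, Tied Q e a A B' E F' C D δ (-η) y ↔ ap z y = y ∧ ap z2 y = -y := by
    intro y
    obtain ⟨q1, q2, q3, q4, q5, q6⟩ := hz y
    obtain ⟨r1, r2, r3, r4, r5, r6⟩ := hz2 y
    constructor
    · rintro ⟨p1, p2, p3, p4⟩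
      refine ⟨h.ext fun w => ?_, h.ext fun w => ?_⟩ <;>
        rcases six_cov hn w with e0 | e0 | e0 | e0 | e0 | e0 <;> rw [e0]
      · rw [q1, p1]; linear_combination co Q e a A y * hδ
      · rw [q2, p1]
      · rw [q3, p3, p4, mul_zero]
      · rw [q4, p3, p4, mul_zero]
      · rw [q5]
      · rw [q6]
      · rw [r1, p1, co_neg]; linear_combination -co Q e a A y * hδ
      · rw [r2, co_neg, p1]; ring
      · rw [r5, co_neg, p3, neg_zero]
      · rw [r6, co_neg, p4, neg_zero]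
      · rw [r3, p2, co_neg]; linear_combination -co Q e a E y * hη
      · rw [r4, co_neg, p2]; ring
    · rintro ⟨h1, h2⟩
      rw [h1] at q2
      rw [h2, co_neg] at r4 r5 r6
      exact ⟨q2, by linear_combination -r4,
        (mul_eq_zero.1 (show (2 : F) * co Q e a C y = 0 by linear_combination -r5)).resolve_left h.two,
        (mul_eq_zero.1 (show (2 : F) * co Q e a D y = 0 by linear_combination -r6)).resolve_left h.two⟩
  have hT' : ∀ y, Tied Q e a C D E F' A B' δ' η y ↔ ap z y = y ∧ ap z2 y = y := by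
    intro y
    obtain ⟨q1, q2, q3, q4, q5, q6⟩ := hz y
    obtain ⟨r1, r2, r3, r4, r5, r6⟩ := hz2 y
    constructor
    · rintro ⟨p1, p2, p3, p4⟩
      refine ⟨h.ext fun w => ?_, h.ext fun w => ?_⟩ <;>
        rcases six_cov hn w with e0 | e0 | e0 | e0 | e0 | e0 <;> rw [e0]
      · rw [q1, p3, p4, mul_zero]
      · rw [q2, p3, p4, mul_zero]
      · rw [q3, p1]; linear_combination co Q e a C y * hδ'
      · rw [q4, p1]
      · rw [q5]
      · rw [q6]
      · rw [r1, p3, p4, mul_zero]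
      · rw [r2, p3, p4, mul_zero]
      · rw [r5]
      · rw [r6]
      · rw [r3, p2]; linear_combination co Q e a E y * hη
      · rw [r4, p2]
    · rintro ⟨h1, h2⟩
      rw [h1] at q4 q1 q2
      rw [h2] at r1 r2 r4
      have hA : co Q e a A y = 0 := by
        have : (2 : F) * (δ * co Q e a A y) = 0 := by linear_combination r2 - q2
        exact (mul_eq_zero.1 ((mul_eq_zero.1 this).resolve_left h.two)).resolve_left
          (left_ne_zero_of_mul_eq_one hδ)
      exact ⟨q4, r4, hA, by rw [q2, hA, mul_zero]⟩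
  have hneg : ∀ (k : Grp Q) y, ap k (-y) = -ap k y := fun k y => by
    rw [← neg_one_smul F y, ap_smul, neg_one_smul]
  have hcomm : ∀ k : Grp Q, (k = g ∨ k = g⁻¹) → k * z = z * k ∧ k * z2 = z2 * k := by
    rintro k (rfl | rfl)
    · exact ⟨hgz, hgz2⟩
    · exact ⟨(Commute.inv_left hgz).eq, (Commute.inv_left hgz2).eq⟩
  have hP : ∀ k : Grp Q, (k = g ∨ k = g⁻¹) → ∀ y, Tied Q e a A B' E F' C D δ (-η) y →
      Tied Q e a A B' E F' C D δ (-η) (ap k y) := fun k hk y hy => by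
    obtain ⟨h1, h2⟩ := (hT y).1 hy
    exact (hT _).2 ⟨by rw [← ap_mul, ← (hcomm k hk).1, ap_mul, h1],
      by rw [← ap_mul, ← (hcomm k hk).2, ap_mul, h2, hneg]⟩
  have hP' : ∀ k : Grp Q, (k = g ∨ k = g⁻¹) → ∀ y, Tied Q e a C D E F' A B' δ' η y →
      Tied Q e a C D E F' A B' δ' η (ap k y) := fun k hk y hy => by
    obtain ⟨h1, h2⟩ := (hT' y).1 hy
    exact (hT' _).2 ⟨by rw [← ap_mul, ← (hcomm k hk).1, ap_mul, h1],
      by rw [← ap_mul, ← (hcomm k hk).2, ap_mul, h2]⟩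
  have r1 := h.root_image hn (δ := δ) (δ' := δ') (η := -η) (by linear_combination hη) (M.inv_mem hg)
    (fun y hy => ⟨hP _ (Or.inr rfl) y hy, by rw [inv_inv]; exact hP _ (Or.inl rfl) y hy⟩)
    (fun y hy => by rw [inv_inv, neg_neg] at *; exact hP' _ (Or.inl rfl) y hy) (left_ne_zero_of_mul_eq_one hδ)
  have r2 := h.root_image (six_pp hn) (δ := δ') (δ' := δ) (η := η) hη (M.inv_mem hg)
    (fun y hy => ⟨hP' _ (Or.inr rfl) y hy, by rw [inv_inv]; exact hP' _ (Or.inl rfl) y hy⟩)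
    (fun y hy => by rw [inv_inv]; exact hP _ (Or.inl rfl) y hy) (left_ne_zero_of_mul_eq_one hδ')
  rw [inv_inv] at r1 r2
  obtain ⟨P, hPd⟩ : ∃ P, P = e E + (-η) • e F' := ⟨_, rfl⟩
  obtain ⟨N, hNd⟩ : ∃ N, N = e E + η • e F' := ⟨_, rfl⟩
  rw [← hPd] at r1
  rw [← hNd] at r2
  obtain ⟨p1, p2, p3, p4⟩ := hP g (Or.inl rfl) P (by
    rw [hPd]; simp [Tied, co_add, co_smul, co_neg, h.co_e, a4, a5, b3, b4, c2, c3, d1, d2, e1, e1.symm])
  obtain ⟨n1, n2, n3, n4⟩ := hP' g (Or.inl rfl) N (by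
    rw [hNd]; simp [Tied, co_add, co_smul, co_neg, h.co_e, a4, a5, b3, b4, c2, c3, d1, d2, e1, e1.symm])
  have h2e : ∀ w, 2 * co Q e a w (ap g (e E)) = co Q e a w (ap g P) + co Q e a w (ap g N) := fun w => by
    rw [← co_smul, ← ap_smul, show (2 : F) • e E = P + N by rw [hPd, hNd]; module, ap_add, co_add]
  have hzero : ∀ w, co Q e a w (ap g P) = 0 → co Q e a w (ap g N) = 0 → co Q e a w (ap g (e E)) = 0 :=
    fun w h1 h2 => (mul_eq_zero.1 (show (2 : F) * co Q e a w (ap g (e E)) = 0 by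
      rw [h2e, h1, h2, add_zero])).resolve_left h.two
  rcases r1 with hA | hE
  · exact h.mono_of_zeros hg a1 (hzero A hA n3) (hzero B' (by rw [p1, hA, mul_zero]) n4)
  rcases r2 with hC | hE'
  · exact h.mono_of_zeros hg c1 (hzero C p3 hC) (hzero D p4 (by rw [n1, hC, mul_zero]))
  · exact h.mono_of_zeros hg e1 (hzero E hE hE') (hzero F' (by rw [p2, hE, mul_zero]) (by rw [n2, hE', mul_zero]))

/-- A monomial element commuting with a double transposition keeps the last pair. -/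
theorem comm_flip {A B' C D E F' : Fin 6} (hn : [A, B', C, D, E, F'].Nodup) {δ δ' : F} (hδ : δ * δ = 1)
    (hδ' : δ' * δ' = 1) {z : Grp Q} (hz : Dbl Q e a A B' C D E F' δ δ' z) {x s : Grp Q}
    (hs : Sign e a s {E, F'}) (hx : Mono e x) (hxz : x * z = z * x) : x * s = s * x := by
  obtain ⟨a1, a2, a3, a4, a5, b1, b2, b3, b4, c1, c2, c3, d1, d2, e1⟩ := six_ne hn
  obtain ⟨π, ε, hπ⟩ := acts_of_mono h.toFrame hx
  have hzfix : ∀ y, y = E ∨ y = F' → ap z (e y) = e y := by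
    intro y hy
    refine h.ext fun w => ?_
    obtain ⟨q1, q2, q3, q4, q5, q6⟩ := hz (e y)
    rcases six_cov hn w with e0 | e0 | e0 | e0 | e0 | e0 <;> rw [e0] <;>
      rcases hy with rfl | rfl <;> simp [q1, q2, q3, q4, q5, q6, h.co_e, a4, a5, b3, b4, c2, c3, d1, d2]
  have hset : ∀ y, y = E ∨ y = F' → π y = E ∨ π y = F' := by
    intro y hy
    have h1 : ap z (e (π y)) = e (π y) := by
      refine smul_right_injective _ (left_ne_zero_of_mul_eq_one (hπ y).1) ?_
      dsimp only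
      rw [← ap_smul, ← (hπ y).2, ← ap_mul, ← hxz, ap_mul, hzfix y hy]
    obtain ⟨q1, q2, q3, q4, -, -⟩ := hz (e (π y))
    rw [h1] at q1 q2 q3 q4
    rcases six_cov hn (π y) with e0 | e0 | e0 | e0 | e0 | e0
    · rw [e0] at q1; simp [h.co_e, a1.symm] at q1
    · rw [e0] at q2; simp [h.co_e, a1] at q2
    · rw [e0] at q3; simp [h.co_e, c1.symm] at q3
    · rw [e0] at q4; simp [h.co_e, c1] at q4
    · exact Or.inl e0
    · exact Or.inr e0
  have hmem : ∀ y, π y ∈ ({E, F'} : Finset (Fin 6)) ↔ y ∈ ({E, F'} : Finset (Fin 6)) := by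
    intro y
    simp only [Finset.mem_insert, Finset.mem_singleton]
    refine ⟨fun h1 => ?_, hset y⟩
    by_contra hc
    rw [not_or] at hc
    rcases hset E (Or.inl rfl) with e2 | e2 <;> rcases hset F' (Or.inr rfl) with e3 | e3
    · exact e1 (π.injective (e2.trans e3.symm))
    · rcases h1 with h1 | h1
      exacts [hc.1 (π.injective (h1.trans e2.symm)), hc.2 (π.injective (h1.trans e3.symm))]
    · rcases h1 with h1 | h1
      exacts [hc.2 (π.injective (h1.trans e3.symm)), hc.1 (π.injective (h1.trans e2.symm))]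
    · exact e1 (π.injective (e2.trans e3.symm))
  exact acts_comm h.toFrame hπ (acts_sign h.toFrame hs) (fun y => by simp) fun y => by
    simp only [Equiv.Perm.one_apply, hmem]
    ring

/-- The centraliser of a double transposition. -/
theorem cent_dbl {A B' C D E F' : Fin 6} (hn : [A, B', C, D, E, F'].Nodup) {δ δ' : F} (hδ : δ * δ = 1)
    (hδ' : δ' * δ' = 1) {z : Grp Q} (hz : Dbl Q e a A B' C D E F' δ δ' z) {g : Grp Q} (hg : g ∈ M)
    (hgz : g * z = z * g) : Mono e g := by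
  obtain ⟨a1, a2, a3, a4, a5, b1, b2, b3, b4, c1, c2, c3, d1, d2, e1⟩ := six_ne hn
  obtain ⟨s, hsM, hs⟩ := h.exists_flip e1
  obtain ⟨z2, hz2M, hz2, hz22, hz2m⟩ := h.exists_dbl (A := A) (B' := B') (C := E) (D := F') (E := C) (F' := D)
    ((List.Perm.nodup_iff (((List.perm_append_comm (l₁ := [C, D]) (l₂ := [E, F'])).cons B').cons A)).1 hn)
    (-δ) 1 (by linear_combination hδ) (one_mul 1)
  have hext : ∀ x y : Grp Q, (∀ v w, co Q e a w (ap x v) = co Q e a w (ap y v)) → x = y := fun x y hxy =>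
    ext_ap fun v => h.ext fun w => hxy v w
  have hs' : ∀ y, co Q e a A (ap s y) = co Q e a A y ∧ co Q e a B' (ap s y) = co Q e a B' y ∧
      co Q e a C (ap s y) = co Q e a C y ∧ co Q e a D (ap s y) = co Q e a D y ∧
      co Q e a E (ap s y) = -co Q e a E y ∧ co Q e a F' (ap s y) = -co Q e a F' y := fun y => by
    simp [hs y, a4, a5, b3, b4, c2, c3, d1, d2]
  have hsz : s * z = z * s := hext _ _ fun v w => by
    rw [ap_mul, ap_mul]
    obtain ⟨p1, p2, p3, p4, p5, p6⟩ := hz v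
    obtain ⟨q1, q2, q3, q4, q5, q6⟩ := hz (ap s v)
    obtain ⟨r1, r2, r3, r4, r5, r6⟩ := hs' (ap z v)
    obtain ⟨s1, s2, s3, s4, s5, s6⟩ := hs' v
    rcases six_cov hn w with e0 | e0 | e0 | e0 | e0 | e0 <;>
      simp only [e0, p1, p2, p3, p4, p5, p6, q1, q2, q3, q4, q5, q6, r1, r2, r3, r4, r5, r6, s1, s2, s3, s4, s5, s6]
  have hsz2 : s * z2 = z2 * s := hext _ _ fun v w => by
    rw [ap_mul, ap_mul]
    obtain ⟨p1, p2, p3, p4, p5, p6⟩ := hz2 v
    obtain ⟨q1, q2, q3, q4, q5, q6⟩ := hz2 (ap s v)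
    obtain ⟨r1, r2, r3, r4, r5, r6⟩ := hs' (ap z2 v)
    obtain ⟨s1, s2, s3, s4, s5, s6⟩ := hs' v
    rcases six_cov hn w with e0 | e0 | e0 | e0 | e0 | e0 <;>
      simp only [e0, p1, p2, p3, p4, p5, p6, q1, q2, q3, q4, q5, q6, r1, r2, r3, r4, r5, r6, s1, s2, s3, s4, s5,
        s6, mul_neg, neg_mul, one_mul]
  have hz2z : z2 * z = z * z2 := hext _ _ fun v w => by
    rw [ap_mul, ap_mul]
    obtain ⟨p1, p2, p3, p4, p5, p6⟩ := hz2 v
    obtain ⟨q1, q2, q3, q4, q5, q6⟩ := hz2 (ap z v)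
    obtain ⟨r1, r2, r3, r4, r5, r6⟩ := hz (ap z2 v)
    obtain ⟨s1, s2, s3, s4, s5, s6⟩ := hz v
    rcases six_cov hn w with e0 | e0 | e0 | e0 | e0 | e0 <;>
      simp only [e0, p1, p2, p3, p4, p5, p6, q1, q2, q3, q4, q5, q6, r1, r2, r3, r4, r5, r6, s1, s2, s3, s4, s5,
        s6] <;> ring
  have hcor : Dbl Q e a A B' E F' C D (-δ) (-1) (s * z2) := fun y => by
    obtain ⟨p1, p2, p3, p4, p5, p6⟩ := hz2 y
    obtain ⟨r1, r2, r3, r4, r5, r6⟩ := hs' (ap z2 y)
    rw [ap_mul, r1, r2, r3, r4, r5, r6, p1, p2, p3, p4, p5, p6]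
    refine ⟨rfl, rfl, ?_, ?_, rfl, rfl⟩ <;> ring
  obtain ⟨t, ht⟩ : ∃ t, t = g * s * g⁻¹ := ⟨_, rfl⟩
  have hss := h.sign_self hs
  have htt : t * t = 1 := by
    rw [ht, show g * s * g⁻¹ * (g * s * g⁻¹) = g * (s * s) * g⁻¹ by group, hss, mul_one, mul_inv_cancel]
  have htM : t ∈ M := ht ▸ M.mul_mem (M.mul_mem hg hsM) (M.inv_mem hg)
  have htz : Commute t z := ht ▸ (Commute.mul_left (Commute.mul_left hgz hsz) (Commute.inv_left hgz))
  have huz : ∀ j : ℕ, Commute ((t * z2) ^ j) z := fun j => (Commute.mul_left htz hz2z).pow_left j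
  have huM : ∀ j : ℕ, (t * z2) ^ j ∈ M := fun j => M.pow_mem (M.mul_mem htM hz2M) j
  obtain ⟨k, j, hk, hj, hjt⟩ := dihedral_climb htt hz22 (Mono e) Frame.mono_one fun j hj => by
    obtain ⟨r, hr⟩ : ∃ r, r = (t * z2) ^ j := ⟨_, rfl⟩
    rw [← hr] at hj ⊢
    have hz2r : z2 * r⁻¹ = r * z2 := by
      have : ∀ i : ℕ, z2 * ((t * z2) ^ i)⁻¹ = (t * z2) ^ i * z2 := fun i => by
        induction i with
        | zero => simp
        | succ i ih =>
          have e2 : z2 * (t * z2)⁻¹ = t * z2 * z2 := by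
            rw [_root_.mul_inv_rev, inv_eq_of_mul_eq_one_right hz22, inv_eq_of_mul_eq_one_right htt,
              ← mul_assoc, hz22, one_mul, mul_assoc, hz22, mul_one]
          conv_lhs => rw [pow_succ', _root_.mul_inv_rev, ← mul_assoc, ih, mul_assoc, e2]
          rw [pow_succ, ← mul_assoc]
      rw [hr]; exact this j
    have hrM : r ∈ M := hr ▸ huM j
    have hrz : Commute r z := hr ▸ huz j
    have hy : (r * r * z2) * s = s * (r * r * z2) :=
      h.comm_flip hn hδ hδ' hz hs (Frame.mono_mul hj hz2m)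
        (Commute.mul_left (Commute.mul_left hrz hrz) hz2z).eq
    have hz2' : z2 = r⁻¹ * (r * r * z2) * r := by
      calc z2 = r⁻¹ * (r * (z2 * r⁻¹)) * r := by group
        _ = _ := by rw [hz2r]; group
    have hc2 : (r⁻¹ * s * r) * z2 = z2 * (r⁻¹ * s * r) := by
      calc (r⁻¹ * s * r) * z2 = (r⁻¹ * s * r) * (r⁻¹ * (r * r * z2) * r) := by rw [← hz2']
        _ = r⁻¹ * (s * (r * r * z2)) * r := by group
        _ = r⁻¹ * ((r * r * z2) * s) * r := by rw [hy]
        _ = (r⁻¹ * (r * r * z2) * r) * (r⁻¹ * s * r) := by group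
        _ = _ := by rw [← hz2']
    have := h.mono_inv (h.fusion (M.inv_mem hrM) e1 hs (by
      rw [inv_inv]
      exact h.cent_dbl_two hn hδ hδ' (one_mul 1) hz hz2 (M.mul_mem (M.mul_mem (M.inv_mem hrM) hsM) hrM)
        (Commute.mul_left (Commute.mul_left (Commute.inv_left hrz) hsz) hrz).eq hc2))
    rwa [inv_inv] at this
  obtain ⟨o, ho⟩ : ∃ o, o = (t * z2) ^ k * g := ⟨_, rfl⟩
  have hos : o * s * o⁻¹ = (t * z2) ^ j * z2 := by rw [← hk, ho, ht]; group
  have hom : Mono e o := h.fusion (ho ▸ M.mul_mem (huM k) hg) e1 hs (by rw [hos]; exact Frame.mono_mul hj hz2m)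
  have hts : (t * z2) ^ j * z2 = s := by
    rw [← hos, h.comm_flip hn hδ hδ' hz hs hom (ho ▸ Commute.mul_left (huz k) hgz).eq, mul_inv_cancel_right]
  have hq : (t * z2) ^ j = s * z2 := by rw [← hts, mul_assoc, hz22, mul_one]
  rw [hq] at hjt
  have hqi : (s * z2)⁻¹ = s * z2 := inv_eq_of_mul_eq_one_right (by
    calc s * z2 * (s * z2) = s * (z2 * s) * z2 := by group
      _ = (s * s) * (z2 * z2) := by rw [← hsz2]; group
      _ = 1 := by rw [hss, hz22, mul_one])
  rw [hqi] at hjt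
  exact h.fusion hg e1 hs (ht ▸ h.cent_dbl_two hn hδ hδ' (by ring) hz hcor htM htz hjt)

/-- The overgroup is monomial. -/
theorem mono_all {g : Grp Q} (hg : g ∈ M) : Mono e g := by
  have hn : [(0 : Fin 6), 1, 2, 3, 4, 5].Nodup := by decide
  obtain ⟨z, hzM, hz, hzz, hzm⟩ := h.exists_dbl hn 1 1 (one_mul 1) (one_mul 1)
  obtain ⟨s, hsM, hs⟩ := h.exists_flip (show (4 : Fin 6) ≠ 5 by decide)
  obtain ⟨t, ht⟩ : ∃ t, t = g * s * g⁻¹ := ⟨_, rfl⟩
  have hss := h.sign_self hs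
  have htt : t * t = 1 := by
    rw [ht, show g * s * g⁻¹ * (g * s * g⁻¹) = g * (s * s) * g⁻¹ by group, hss, mul_one, mul_inv_cancel]
  have htM : t ∈ M := ht ▸ M.mul_mem (M.mul_mem hg hsM) (M.inv_mem hg)
  have huM : ∀ j : ℕ, (t * z) ^ j ∈ M := fun j => M.pow_mem (M.mul_mem htM hzM) j
  obtain ⟨k, j, hk, hj, hjt⟩ := dihedral_climb htt hzz (Mono e) Frame.mono_one fun j hj => by
    obtain ⟨r, hr⟩ : ∃ r, r = (t * z) ^ j := ⟨_, rfl⟩
    rw [← hr] at hj ⊢
    have hzr : z * r⁻¹ = r * z := by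
      have : ∀ i : ℕ, z * ((t * z) ^ i)⁻¹ = (t * z) ^ i * z := fun i => by
        induction i with
        | zero => simp
        | succ i ih =>
          have e2 : z * (t * z)⁻¹ = t * z * z := by
            rw [_root_.mul_inv_rev, inv_eq_of_mul_eq_one_right hzz, inv_eq_of_mul_eq_one_right htt,
              ← mul_assoc, hzz, one_mul, mul_assoc, hzz, mul_one]
          conv_lhs => rw [pow_succ', _root_.mul_inv_rev, ← mul_assoc, ih, mul_assoc, e2]
          rw [pow_succ, ← mul_assoc]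
      rw [hr]; exact this j
    have hrM : r ∈ M := hr ▸ huM j
    obtain ⟨y, hy⟩ : ∃ y, y = r * r * z := ⟨_, rfl⟩
    have hy' : y = r * z * r⁻¹ := by
      rw [hy, mul_assoc r r z, mul_assoc r z r⁻¹, hzr]
    have hyy : y * y = 1 := by
      rw [hy', show r * z * r⁻¹ * (r * z * r⁻¹) = r * (z * z) * r⁻¹ by group, hzz, mul_one, mul_inv_cancel]
    obtain ⟨π, ε, hπ⟩ := acts_of_mono h.toFrame (hy ▸ Frame.mono_mul hj hzm : Mono e y)
    have hi : ∀ w, π (π w) = w := fun w => by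
      have h1 := (acts_mul hπ hπ w).2
      rw [hyy, ap_one, Equiv.Perm.mul_apply] at h1
      by_contra hne
      have := congrArg (co Q e a w) h1
      rw [co_smul, h.co_self, h.co_ne (Ne.symm hne), mul_zero] at this
      exact one_ne_zero this
    obtain ⟨p, p', hpp, hset⟩ : ∃ p p', p ≠ p' ∧
        ∀ w, π w ∈ ({p, p'} : Finset (Fin 6)) ↔ w ∈ ({p, p'} : Finset (Fin 6)) := by
      by_cases h1 : ∃ w, π w ≠ w
      · obtain ⟨w, hw⟩ := h1
        refine ⟨w, π w, Ne.symm hw, fun x => ?_⟩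
        simp only [Finset.mem_insert, Finset.mem_singleton]
        constructor
        · rintro (e0 | e0)
          · exact Or.inr (by rw [← e0, hi])
          · exact Or.inl (π.injective e0)
        · rintro (rfl | rfl)
          · exact Or.inr rfl
          · exact Or.inl (hi w)
      · push Not at h1
        exact ⟨0, 1, by decide, fun w => by rw [h1]⟩
    obtain ⟨s', hs'M, hs'⟩ := h.exists_flip hpp
    have hys : y * s' = s' * y := acts_comm h.toFrame hπ (acts_sign h.toFrame hs') (fun w => by simp) fun w => by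
      simp only [Equiv.Perm.one_apply, hset]
      ring
    have hzc : z = r⁻¹ * y * r := by rw [hy']; group
    have hc : (r⁻¹ * s' * r) * z = z * (r⁻¹ * s' * r) := by
      calc (r⁻¹ * s' * r) * z = (r⁻¹ * s' * r) * (r⁻¹ * y * r) := by rw [← hzc]
        _ = r⁻¹ * (s' * y) * r := by group
        _ = r⁻¹ * (y * s') * r := by rw [hys]
        _ = (r⁻¹ * y * r) * (r⁻¹ * s' * r) := by group
        _ = _ := by rw [← hzc]
    have := h.mono_inv (h.fusion (M.inv_mem hrM) hpp hs' (by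
      rw [inv_inv]
      exact h.cent_dbl hn (one_mul 1) (one_mul 1) hz (M.mul_mem (M.mul_mem (M.inv_mem hrM) hs'M) hrM) hc))
    rwa [inv_inv] at this
  obtain ⟨o, ho⟩ : ∃ o, o = (t * z) ^ k * g := ⟨_, rfl⟩
  have hos : o * s * o⁻¹ = (t * z) ^ j * z := by rw [← hk, ho, ht]; group
  have hom : Mono e o := h.fusion (ho ▸ M.mul_mem (huM k) hg) (by decide) hs
    (by rw [hos]; exact Frame.mono_mul hj hzm)
  obtain ⟨π, ε, hπ⟩ := acts_of_mono h.toFrame hom
  have hsign : Sign e a (o * s * o⁻¹) {π 4, π 5} := fun x l => by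
    obtain ⟨w, rfl⟩ := π.surjective l
    rw [ap_mul, ap_mul, co_acts h.toFrame hπ, hs, ← mul_assoc]
    conv_rhs => rw [← ap_ap_inv o x, co_acts h.toFrame hπ]
    simp only [Finset.mem_insert, Finset.mem_singleton, π.injective.eq_iff]
    ring
  rw [hos] at hsign
  obtain ⟨q, hq⟩ : ∃ q, q = (t * z) ^ j := ⟨_, rfl⟩
  rw [← hq] at hsign hjt
  have hqy : ∀ y l, co Q e a l (ap q y) =
      (if l ∈ ({π 4, π 5} : Finset (Fin 6)) then -1 else 1) * co Q e a l (ap z y) := fun y l => by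
    rw [← hsign, ← ap_mul, mul_assoc, hzz, mul_one]
  have hcases : ∀ p p' : Fin 6, p ≠ p' →
      ((p = 0 ∧ p' = 1 ∨ p = 1 ∧ p' = 0) ∨ (p = 2 ∧ p' = 3 ∨ p = 3 ∧ p' = 2) ∨
        (p = 4 ∧ p' = 5 ∨ p = 5 ∧ p' = 4)) ∨
      ∃ x y : Fin 6, x ≠ y ∧
        ((∀ l, ¬ ((l ∈ ({p, p'} : Finset (Fin 6))) ↔
            ((Equiv.swap 0 1 * Equiv.swap 2 3 : Equiv.Perm (Fin 6)) l ∈ ({p, p'} : Finset (Fin 6)))) ↔
            l ∈ ({x, y} : Finset (Fin 6))) ∨
          (∀ l, ¬ ((l ∈ ({p, p'} : Finset (Fin 6))) ↔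
            ((Equiv.swap 0 1 * Equiv.swap 2 3 : Equiv.Perm (Fin 6)) l ∈ ({p, p'} : Finset (Fin 6)))) ↔
            l ∉ ({x, y} : Finset (Fin 6)))) := by
    decide +kernel
  have hfus : Mono e t → Mono e g := fun h1 => h.fusion hg (by decide) hs (ht ▸ h1)
  refine hfus ?_
  have hswap : ∀ l, (Equiv.swap 0 1 * Equiv.swap 2 3 : Equiv.Perm (Fin 6)) l =
      if l = 0 then 1 else if l = 1 then 0 else if l = 2 then 3 else if l = 3 then 2 else l := by decide
  have hzco : ∀ y l, co Q e a l (ap z y) =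
      co Q e a ((Equiv.swap 0 1 * Equiv.swap 2 3 : Equiv.Perm (Fin 6)) l) y := fun y l => by
    obtain ⟨q1, q2, q3, q4, q5, q6⟩ := hz y
    rcases six_cov hn l with e0 | e0 | e0 | e0 | e0 | e0 <;> rw [e0, hswap] <;> simp [q1, q2, q3, q4, q5, q6]
  rcases hcases (π 4) (π 5) (π.injective.ne (by decide)) with hinv | ⟨x, y, hxy, hxy'⟩
  · -- the product is an involution
    have hval : ∃ d d' c : F, d * d = 1 ∧ d' * d' = 1 ∧ c * c = 1 ∧ ∀ y,
        co Q e a 0 (ap q y) = d * co Q e a 1 y ∧ co Q e a 1 (ap q y) = d * co Q e a 0 y ∧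
        co Q e a 2 (ap q y) = d' * co Q e a 3 y ∧ co Q e a 3 (ap q y) = d' * co Q e a 2 y ∧
        co Q e a 4 (ap q y) = c * co Q e a 4 y ∧ co Q e a 5 (ap q y) = c * co Q e a 5 y := by
      obtain ⟨d, d', c, hd⟩ : ∃ d d' c : F, d * d = 1 ∧ d' * d' = 1 ∧ c * c = 1 ∧
          ∀ l : Fin 6, (if l ∈ ({π 4, π 5} : Finset (Fin 6)) then (-1 : F) else 1) =
            if l = 0 ∨ l = 1 then d else if l = 2 ∨ l = 3 then d' else c := by
        have e1 : (-1 : F) * -1 = 1 := by ring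
        rcases hinv with (⟨h4, h5⟩ | ⟨h4, h5⟩) | (⟨h4, h5⟩ | ⟨h4, h5⟩) | (⟨h4, h5⟩ | ⟨h4, h5⟩)
        · exact ⟨-1, 1, 1, e1, one_mul 1, one_mul 1, fun l => by fin_cases l <;> simp [h4, h5]⟩
        · exact ⟨-1, 1, 1, e1, one_mul 1, one_mul 1, fun l => by fin_cases l <;> simp [h4, h5]⟩
        · exact ⟨1, -1, 1, one_mul 1, e1, one_mul 1, fun l => by fin_cases l <;> simp [h4, h5]⟩
        · exact ⟨1, -1, 1, one_mul 1, e1, one_mul 1, fun l => by fin_cases l <;> simp [h4, h5]⟩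
        · exact ⟨1, 1, -1, one_mul 1, one_mul 1, e1, fun l => by fin_cases l <;> simp [h4, h5]⟩
        · exact ⟨1, 1, -1, one_mul 1, one_mul 1, e1, fun l => by fin_cases l <;> simp [h4, h5]⟩
      refine ⟨d, d', c, hd.1, hd.2.1, hd.2.2.1, fun y => ?_⟩
      obtain ⟨q1, q2, q3, q4, q5, q6⟩ := hz y
      simp only [hqy, hd.2.2.2]
      simp [q1, q2, q3, q4, q5, q6]
    obtain ⟨d, d', c, hd, hd', hc, hqv⟩ := hval
    obtain ⟨w, -, hw, -, -⟩ := h.exists_dbl hn (c * d) (c * d')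
      (by linear_combination (d * d) * hc + hd) (by linear_combination (d' * d') * hc + hd')
    have hwq : ∀ v, ap w v = c • ap q v := fun v => h.ext fun l => by
      obtain ⟨q1, q2, q3, q4, q5, q6⟩ := hw v
      obtain ⟨r1, r2, r3, r4, r5, r6⟩ := hqv v
      rw [co_smul]
      rcases six_cov hn l with e0 | e0 | e0 | e0 | e0 | e0 <;> rw [e0]
      · rw [q1, r1]; ring
      · rw [q2, r2]; ring
      · rw [q3, r3]; ring
      · rw [q4, r4]; ring
      · rw [q5, r5, ← mul_assoc, hc, one_mul]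
      · rw [q6, r6, ← mul_assoc, hc, one_mul]
    have hqq : q * q = 1 := ext_ap fun v => h.ext fun l => by
      rw [ap_mul, ap_one]
      obtain ⟨r1, r2, r3, r4, r5, r6⟩ := hqv (ap q v)
      obtain ⟨s1, s2, s3, s4, s5, s6⟩ := hqv v
      rcases six_cov hn l with e0 | e0 | e0 | e0 | e0 | e0 <;> rw [e0]
      · rw [r1, s2, ← mul_assoc, hd, one_mul]
      · rw [r2, s1, ← mul_assoc, hd, one_mul]
      · rw [r3, s4, ← mul_assoc, hd', one_mul]
      · rw [r4, s3, ← mul_assoc, hd', one_mul]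
      · rw [r5, s5, ← mul_assoc, hc, one_mul]
      · rw [r6, s6, ← mul_assoc, hc, one_mul]
    rw [inv_eq_of_mul_eq_one_right hqq] at hjt
    refine h.cent_dbl hn (by linear_combination (d * d) * hc + hd) (by linear_combination (d' * d') * hc + hd') hw
      htM (ext_ap fun v => ?_)
    rw [ap_mul, ap_mul, hwq, hwq, ap_smul, ← ap_mul, ← ap_mul, hjt]
  · -- its square is a pair of signs up to the sign
    obtain ⟨f, hfM, hf⟩ := h.exists_flip hxy
    obtain ⟨σ, hσ⟩ : ∃ σ : F, σ * σ = 1 ∧ ∀ v, ap (q * q) v = σ • ap f v := by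
      have hqq : ∀ v l, co Q e a l (ap (q * q) v) =
          (if ¬ ((l ∈ ({π 4, π 5} : Finset (Fin 6))) ↔
            ((Equiv.swap 0 1 * Equiv.swap 2 3 : Equiv.Perm (Fin 6)) l ∈ ({π 4, π 5} : Finset (Fin 6))))
            then -1 else 1) * co Q e a l v := fun v l => by
        rw [ap_mul, hqy, hzco, hqy, hzco]
        have hi : (Equiv.swap 0 1 * Equiv.swap 2 3 : Equiv.Perm (Fin 6))
            ((Equiv.swap 0 1 * Equiv.swap 2 3 : Equiv.Perm (Fin 6)) l) = l := by revert l; decide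
        rw [hi]
        split_ifs <;> first | ring1 | tauto
      rcases hxy' with h1 | h1
      · refine ⟨1, one_mul 1, fun v => h.ext fun l => ?_⟩
        rw [hqq, co_smul, hf, one_mul]
        simp only [h1 l]
      · refine ⟨-1, by ring, fun v => h.ext fun l => ?_⟩
        rw [hqq, co_smul, hf]
        simp only [h1 l]
        split_ifs <;> ring
    have h4 : q * q * (q * q) = 1 := ext_ap fun v => by
      rw [ap_mul (q * q), hσ.2, hσ.2, ap_smul, ← ap_mul, h.sign_self hf, smul_smul, hσ.1, one_smul]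
    have hcq : t * (q * q) = q * q * t := by
      calc t * (q * q) = (t * q) * q := by group
        _ = (q⁻¹ * t) * q := by rw [hjt]
        _ = q⁻¹ * (t * q) := mul_assoc _ _ _
        _ = q⁻¹ * (q⁻¹ * t) := by rw [hjt]
        _ = (q * q)⁻¹ * t := by group
        _ = _ := by rw [inv_eq_of_mul_eq_one_right h4]
    refine h.cent_pair hxy hf htM (ext_ap fun v => smul_right_injective _ (left_ne_zero_of_mul_eq_one hσ.1) ?_)
    dsimp only
    rw [ap_mul, ap_mul, ← ap_smul, ← hσ.2, ← ap_mul, hcq, ap_mul, hσ.2]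

end Over6

end CfsgLib.Orth.FrameSix
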